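/-
Certificates: each monomial involution of Co0 with a nontrivial permutation part is conjugate to a sign change.
-/
import Cfsg.Agent.Lib.Spor.CrossWordData

set_option autoImplicit false

namespace Cfsg.Agent.Spor.CoZeroStandard

/-- a representative sign mask, the permutation and the sign mask of the conjugating word, the diagonal mask -/
def freeReps : List (ℕ × List ℕ × ℕ × ℕ) := [
  (0, [16, 18, 19, 21, 17, 13, 4, 7, 22, 14, 23, 12, 10, 3, 15, 1, 0, 8, 6, 11, 2, 9, 5, 20], 8379060, 2476723)]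

/-- words whose differences with their images exhaust the differences -/
def freeShifts : List ℕ := [0, 5279, 10558, 15777, 36294, 39257, 42232, 45159, 69395, 72588, 75309, 78514, 99029, 104010, 109547, 114548, 133817, 138790, 140167, 145176, 165759, 168928, 175681, 178910, 198058, 201013, 208020, 210955, 231532, 236787, 237906, 243149, 525274, 530245, 535268, 540283, 560668, 563843, 567074, 570301, 593097, 596054, 599543, 602472, 622863, 628112, 632881, 638126, 657763, 663036, 663645, 668866, 689317, 692282, 699803, 702724, 722544, 725743, 733006, 736209, 756662, 761641, 762504, 767511]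

/-- the same for the involution with an octad of fixed points -/
def fixedReps : List (ℕ × List ℕ × ℕ × ℕ) := [
  (0, [0, 10, 7, 1, 22, 5, 21, 17, 12, 16, 11, 15, 23, 20, 14, 3, 2, 9, 18, 4, 19, 8, 13, 6], 11432145, 8622214),
  (337856, [19, 21, 20, 15, 13, 6, 11, 18, 0, 12, 8, 4, 16, 23, 7, 5, 1, 9, 2, 14, 17, 3, 22, 10], 5727841, 14218448),
  (622863, [17, 14, 5, 23, 13, 1, 9, 20, 19, 11, 18, 6, 21, 4, 0, 8, 16, 2, 7, 15, 12, 10, 22, 3], 12312770, 5890857),
  (829135, [9, 6, 12, 4, 18, 22, 16, 19, 0, 8, 15, 21, 13, 2, 11, 17, 1, 10, 3, 23, 5, 14, 20, 7], 4742121, 3233203),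
  (1090380, [5, 14, 12, 4, 8, 18, 2, 15, 7, 3, 13, 9, 20, 0, 19, 10, 23, 16, 11, 17, 1, 22, 6, 21], 1005025, 1652444),
  (1410188, [10, 3, 2, 7, 17, 1, 5, 23, 18, 22, 9, 11, 6, 19, 4, 20, 16, 0, 13, 15, 21, 8, 14, 12], 14700465, 9030553),
  (1647171, [12, 23, 4, 17, 11, 9, 18, 22, 20, 8, 3, 21, 2, 10, 6, 16, 13, 0, 5, 19, 14, 7, 15, 1], 6290658, 10458373),
  (1836419, [16, 15, 21, 13, 2, 22, 7, 4, 19, 1, 3, 0, 12, 9, 11, 18, 8, 23, 6, 20, 14, 5, 10, 17], 7170014, 9416464),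
  (2204803, [14, 9, 5, 6, 10, 19, 13, 1, 4, 21, 7, 16, 0, 17, 18, 12, 3, 8, 23, 2, 11, 22, 15, 20], 13121601, 7379914),
  (2392899, [21, 18, 15, 8, 16, 22, 5, 20, 23, 7, 19, 10, 13, 1, 2, 4, 17, 11, 9, 12, 0, 6, 14, 3], 5473687, 9530127),
  (2631052, [16, 18, 20, 15, 5, 17, 10, 11, 1, 3, 22, 2, 14, 8, 9, 4, 12, 6, 19, 0, 21, 13, 7, 23], 4490852, 4094736),
  (2949708, [9, 2, 6, 3, 11, 7, 12, 0, 21, 5, 22, 4, 1, 20, 23, 18, 16, 17, 13, 19, 15, 8, 14, 10], 4924673, 9017829),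
  (3213263, [10, 22, 7, 11, 20, 18, 1, 16, 12, 23, 8, 0, 21, 3, 15, 6, 4, 13, 14, 9, 5, 2, 17, 19], 5268006, 6371221),
  (3416079, [14, 5, 23, 17, 9, 21, 8, 22, 3, 19, 11, 16, 6, 12, 13, 0, 1, 20, 10, 2, 7, 4, 15, 18], 13832379, 10743859),
  (3704512, [23, 2, 17, 3, 14, 8, 11, 1, 15, 12, 0, 4, 5, 7, 18, 21, 19, 16, 9, 20, 10, 6, 22, 13], 14069282, 2988821),
  (4038912, [20, 18, 19, 8, 22, 6, 7, 17, 2, 10, 11, 1, 23, 13, 5, 3, 4, 9, 16, 12, 21, 15, 0, 14], 15643067, 3585007)]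

/-- words whose differences with their images exhaust the differences -/
def fixedShifts : List ℕ := [0, 10558, 36294, 42232, 69395, 75309, 99029, 109547, 133817, 140167, 165759, 175681, 198058, 208020, 231532, 237906]

end Cfsg.Agent.Spor.CoZeroStandard
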