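/-
Kernel checks of the certificates for the involutions of Co0.
-/
import Cfsg.Agent.Lib.Spor.CoZeroStandard.Data
import Cfsg.Agent.Lib.Spor.Co1Simple
import Cfsg.Agent.Lib.Spor.GolayElemData

set_option autoImplicit false
set_option maxRecDepth 100000

namespace Cfsg.Agent.Spor.CoZeroStandard

open Cfsg Cfsg.Agent.Spor

local notation "Zv" => GolayPt → ℤ

/-- a word on lists -/
def evW : List LOp → List ℤ → List ℤ
  | [], l => l
  | op :: w, l => op.ev (evW w l)

/-- eight times a unit vector, listed -/
def unitL8 (i : ℕ) : List ℤ := (List.range 24).map fun k => if k = i then 8 else 0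

theorem vecOf_unit : ∀ i : Fin 24, vecOf (unitL8 i) = (Pi.single (pt i) 8 : Zv) := by decide +kernel

/-- the two words agree on the unit vectors -/
def agree (a b : List LOp) : Bool :=
  a.all LOp.ok && b.all LOp.ok &&
    ((List.range 24).all fun i => evW a (unitL8 i) == evW b (unitL8 i))

/-- the check of one representative -/
def repOk (l : List ℕ) (r : ℕ × List ℕ × ℕ × ℕ) : Bool :=
  agree ([.xiO, .sgO r.2.2.1, .plO r.2.1] ++ [.sgO r.1, .plO l])
      ([.sgO r.2.2.2] ++ [.xiO, .sgO r.2.2.1, .plO r.2.1]) &&
    inCode r.2.2.2 && decide (r.2.2.2 < 2 ^ 24) &&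
    (pc r.2.2.2 == 8 || pc r.2.2.2 == 12 || pc r.2.2.2 == 16)

/-- the representatives cover all admissible sign masks -/
def coverOk (l : List ℕ) (reps : List (ℕ × List ℕ × ℕ × ℕ)) (vs : List ℕ) : Bool :=
  reps.all (repOk l) && vs.all (fun v => inCode v && decide (v < 2 ^ 24)) &&
    codeMasks.all fun m => (pm l m 0 != m) ||
      reps.any fun r => vs.any fun v => m ^^^ (v ^^^ pm l v 0) == r.1

theorem cover_free : coverOk involFree freeReps freeShifts = true := by decide +kernel

theorem cover_fixed : coverOk involFixed fixedReps fixedShifts = true := by decide +kernel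

theorem invol_symm : (∀ i, i < 24 → involFree.getD (involFree.getD i 0) 0 = i) ∧
    (∀ i, i < 24 → involFixed.getD (involFixed.getD i 0) 0 = i) := by decide +kernel

end Cfsg.Agent.Spor.CoZeroStandard
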