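/-
Every involution of Co0 other than negation is conjugate to the sign change on a code word of weight 8, 12 or 16.
-/
import Cfsg.Agent.Lib.Spor.CoZeroStandard.Check
import Cfsg.Agent.Lib.Spor.Co1Simple
import Cfsg.Agent.Lib.Spor.Co1Invol.Cent
import Cfsg.Agent.Lib.Spor.GolayElemFacts
import Cfsg.Agent.Lib.Spor.GolayDodecad

set_option autoImplicit false
set_option maxRecDepth 100000

namespace Cfsg.Agent.Spor.CoZeroStandard

open Cfsg Cfsg.Agent.Spor Cfsg.Agent.Spor.Co1Invol
open scoped Pointwise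

local notation "Zv" => GolayPt → ℤ
set_option quotPrecheck false in
local notation "Lv" => ↥leechLattice

theorem symm_one (p : GolayPt) : (1 : Equiv.Perm GolayPt).symm p = p := rfl

attribute [local simp] symm_one

/-! ### elements agreeing on the unit vectors -/

theorem ext_e8 {g h : ↥Co0} (e : ∀ i, ((g • e8 i : Lv) : Zv) = ((h • e8 i : Lv) : Zv)) : g = h := by
  refine co0_ext fun v => funext fun k => ?_
  have h1 := eight_expand g v k
  have h2 := eight_expand h v k
  simp only [e] at h1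
  omega

theorem vecOf_evW : ∀ (w : List LOp) (l : List ℤ), vecOf (evW w l) = wordApp w (vecOf l)
  | [], _ => rfl
  | op :: w, l => by
      show vecOf (op.ev (evW w l)) = op.app (wordApp w (vecOf l))
      rw [vecOf_ev, vecOf_evW w l]

theorem exists_word (w : List LOp) (hw : w.all LOp.ok = true) :
    ∃ g : ↥Co0, ∀ v : Lv, ((g • v : Lv) : Zv) = wordApp w (v : Zv) := by
  obtain ⟨x, hx⟩ := exists_xi
  obtain ⟨g, -, h⟩ := word_elem ⊤ (fun _ _ => Subgroup.mem_top _) (Subgroup.mem_top x) hx w hw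
  exact ⟨g, h⟩

theorem agree_sound {a b : List LOp} (h : agree a b = true) {g k : ↥Co0}
    (hg : ∀ v : Lv, ((g • v : Lv) : Zv) = wordApp a (v : Zv))
    (hk : ∀ v : Lv, ((k • v : Lv) : Zv) = wordApp b (v : Zv)) : g = k := by
  simp only [agree, Bool.and_eq_true, List.all_eq_true, List.mem_range, beq_iff_eq] at h
  refine ext_e8 fun p => ?_
  rw [hg, hk]
  have e : (e8 p : Zv) = vecOf (unitL8 (idx p)) := by
    have := vecOf_unit ⟨idx p, idx_lt p⟩
    rw [this, pt_idx]; rfl
  rw [e, ← vecOf_evW, ← vecOf_evW, h.2 _ (idx_lt p)]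

/-! ### words of the code as masks -/

theorem ofMaskW_wmask (w : GolayPt → ZMod 2) : ofMaskW (wmask w) = w :=
  support₂_injective (by rw [support₂_ofMaskW, wmask, ofMask_mask])

theorem wmask_ofMaskW {m : ℕ} (h : m < 2 ^ 24) : wmask (ofMaskW m) = m := by
  rw [wmask, support₂_ofMaskW, mask_ofMask h]

theorem ofMaskW_code {m : ℕ} (h : m ∈ codeMasks) : ofMaskW m ∈ golayCode :=
  mem_code.2 (by rwa [wmask_ofMaskW (codeMasks_lt m h)])

theorem ofMaskW_xor {a b : ℕ} (ha : a ∈ codeMasks) (hb : b ∈ codeMasks) :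
    ofMaskW a + ofMaskW b = ofMaskW (a ^^^ b) := by
  refine wmask_injective ?_
  rw [wmask_add, wmask_ofMaskW (codeMasks_lt a ha), wmask_ofMaskW (codeMasks_lt b hb),
    wmask_ofMaskW (codeMasks_lt _ (codeMasks_xor ha hb))]

theorem wmask_actW {l : List ℕ} (hl : lok l = true) (w : GolayPt → ZMod 2) :
    wmask (actW (lperm l) w) = pm l (wmask w) 0 := by
  rw [wmask, support₂_actW, mask_smul_lperm hl]
  rfl

/-! ### signed permutations -/

theorem mono_conj_sgn {g h : ↥Co0} {σ : Equiv.Perm GolayPt} {w v : GolayPt → ZMod 2}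
    (hg : IsMono g σ w) (hh : IsMono h 1 v) : IsMono (h * g * h⁻¹) σ (w + (v + actW σ v)) := by
  intro x
  have hi : IsMono h⁻¹ 1 v := fun u => by
    have := hh (h⁻¹ • u)
    rw [smul_inv_smul] at this
    show _ = sgn v (((u : Lv) : Zv))
    conv_rhs => rw [this]
    exact (sgn_sgn v ((h⁻¹ • u : Lv) : Zv)).symm
  rw [mul_smul, mul_smul, hh, hg, hi]
  funext p
  simp only [sgn, prm, Pi.add_apply, actW, Equiv.Perm.one_def, Equiv.refl_symm, Equiv.refl_apply]
  rcases word_eq_one_or_zero (w p) with a | a <;> rcases word_eq_one_or_zero (v p) with b | b <;>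
    rcases word_eq_one_or_zero (v (σ.symm p)) with c | c <;>
    simp [a, b, c, show (1 : ZMod 2) + 1 = 0 from rfl]

theorem mono_one {g : ↥Co0} (h : IsMono g 1 0) : g = 1 := co0_ext fun v => by
  rw [h, one_smul]; funext p; simp [sgn, prm]

theorem rep_sound {l : List ℕ} {r : ℕ × List ℕ × ℕ × ℕ} (h : repOk l r = true)
    (hinv : (lperm l).symm = lperm l) {g : ↥Co0} (hg : IsMono g (lperm l) (ofMaskW r.1)) :
    ∃ (k : ↥Co0) (c : GolayPt → ZMod 2), c ∈ golayCode ∧ IsMono (k * g * k⁻¹) 1 c ∧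
      ((support₂ c).card = 8 ∨ (support₂ c).card = 12 ∨ (support₂ c).card = 16) := by
  simp only [repOk, Bool.and_eq_true, Bool.or_eq_true, beq_iff_eq, decide_eq_true_eq] at h
  obtain ⟨⟨⟨hag, hc⟩, hlt⟩, hpc⟩ := h
  have hok := hag
  simp only [agree, Bool.and_eq_true, List.all_append, List.all_cons, List.all_nil] at hok
  have hall : [LOp.xiO, .sgO r.2.2.1, .plO r.2.1].all LOp.ok = true := by
    simp [List.all_cons, hok.1.1.1]
  have hlok : lok l = true := by
    have h2 := hok.1.1.2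
    simp only [LOp.ok, m24ok, Bool.and_eq_true] at h2
    exact h2.2.1.1
  obtain ⟨k, hk⟩ := exists_word _ hall
  have hc' : ofMaskW r.2.2.2 ∈ golayCode := dec_code hc hlt
  obtain ⟨s, hs⟩ := exists_sgn hc'
  have hgw : ∀ v : Lv, ((g • v : Lv) : Zv) = wordApp [.sgO r.1, .plO l] (v : Zv) := fun v => by
    rw [hg v]
    show sgn _ _ = sgn _ (LOp.app (.plO l) (v : Zv))
    congr 1
    funext p
    show (v : Zv) ((lperm l).symm p) = (v : Zv) (pt (l.getD (idx p) 0))
    rw [hinv, lperm_apply hlok]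
  have e : k * g = s * k := by
    refine agree_sound hag (fun v => ?_) fun v => ?_
    · rw [mul_smul, hk, hgw, ← wordApp_append]
    · rw [mul_smul, hs, hk, wordApp_append]; rfl
  refine ⟨k, ofMaskW r.2.2.2, hc', ?_, ?_⟩
  · rw [e, mul_inv_cancel_right]
    intro v
    rw [hs]; rfl
  · rw [support₂_ofMaskW, ← pc_mask, mask_ofMask hlt]
    exact or_assoc.1 hpc

theorem lperm_symm {l : List ℕ} (hl : lok l = true) (h : ∀ i, i < 24 → l.getD (l.getD i 0) 0 = i) :
    (lperm l).symm = lperm l := by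
  refine Equiv.ext fun p => ?_
  rw [Equiv.symm_apply_eq]
  refine idx_injective ?_
  rw [← rep_lperm hl, ← rep_lperm hl, h _ (idx_lt p)]

theorem cover_sound {l : List ℕ} {reps : List (ℕ × List ℕ × ℕ × ℕ)} {vs : List ℕ}
    (hl : lok l = true) (hinv : (lperm l).symm = lperm l) (h : coverOk l reps vs = true) {g : ↥Co0}
    {w : GolayPt → ZMod 2} (hw : w ∈ golayCode) (hfix : actW (lperm l) w = w)
    (hg : IsMono g (lperm l) w) :
    ∃ (k : ↥Co0) (c : GolayPt → ZMod 2), c ∈ golayCode ∧ IsMono (k * g * k⁻¹) 1 c ∧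
      ((support₂ c).card = 8 ∨ (support₂ c).card = 12 ∨ (support₂ c).card = 16) := by
  simp only [coverOk, Bool.and_eq_true, List.all_eq_true, Bool.or_eq_true, bne_iff_ne, ne_eq,
    List.any_eq_true, beq_iff_eq, decide_eq_true_eq] at h
  obtain ⟨⟨hreps, hvs⟩, hcov⟩ := h
  have hm := mem_code.1 hw
  obtain ⟨r, hr, v, hv, e⟩ := (hcov _ hm).resolve_left fun hne => hne (by
    rw [← wmask_actW hl, hfix])
  have hvc : v ∈ codeMasks := inCode_mem (hvs v hv).1
  obtain ⟨h', hh'⟩ := exists_sgn (ofMaskW_code hvc)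
  have h1 : IsMono h' 1 (ofMaskW v) := fun u => by rw [hh']; rfl
  have hp : pm l v 0 ∈ codeMasks := by
    have hl2 : m24ok l = true := by
      have := hreps r hr
      simp only [repOk, agree, LOp.ok, Bool.and_eq_true, List.all_append, List.all_cons, List.all_nil] at this
      exact this.1.1.1.1.1.2.2.1
    rw [← wmask_ofMaskW (m := v) (codeMasks_lt v hvc), ← wmask_actW hl]
    exact mem_code.1 (actW_mem (lperm_mem hl2) (ofMaskW_code hvc))
  have hact : actW (lperm l) (ofMaskW v) = ofMaskW (pm l v 0) := by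
    refine wmask_injective ?_
    rw [wmask_actW hl, wmask_ofMaskW (codeMasks_lt v hvc), wmask_ofMaskW (codeMasks_lt _ hp)]
  have hnew : IsMono (h' * g * h'⁻¹) (lperm l) (ofMaskW r.1) := by
    have := mono_conj_sgn hg h1
    rw [hact, ofMaskW_xor hvc hp, ← ofMaskW_wmask w,
      ofMaskW_xor hm (codeMasks_xor hvc hp), e] at this
    exact this
  obtain ⟨k, c, hc, hk, hcard⟩ := rep_sound (hreps r hr) hinv hnew
  refine ⟨k * h', c, hc, ?_, hcard⟩
  rwa [show k * h' * g * (k * h')⁻¹ = k * (h' * g * h'⁻¹) * k⁻¹ by group]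

/-- a monomial involution is conjugate to a sign change -/
theorem mono_invol {g : ↥Co0} (hg : g * g = 1) (h1 : g ≠ 1) (hn : g ≠ nEl) (hs : StdStab g) :
    ∃ (k : ↥Co0) (c : GolayPt → ZMod 2), c ∈ golayCode ∧ IsMono (k * g * k⁻¹) 1 c ∧
      ((support₂ c).card = 8 ∨ (support₂ c).card = 12 ∨ (support₂ c).card = 16) := by
  obtain ⟨σ, hσ, w, hw, hm⟩ := std_form hs
  have hsq := mono_mul (g := g) (h := g) hm hm
  rw [hg] at hsq
  obtain ⟨hσ2, hw2⟩ := mono_unique (σ := σ * σ) (τ := 1) (w := w + actW σ w) (w' := 0) fun v => by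
    rw [← hsq v, one_smul]; funext p; simp [sgn, prm]
  by_cases hσ1 : σ = 1
  · subst hσ1
    refine ⟨1, w, hw, by rw [inv_one, mul_one, one_mul]; exact hm, ?_⟩
    have hwt := weight_mem_code hw
    have hcard : hammingNorm w = (support₂ w).card := rfl
    rw [hcard] at hwt
    rcases hwt with h | h | h | h | h
    · exfalso
      refine h1 (mono_one ?_)
      have : w = 0 := support₂_injective (by
        rw [Finset.card_eq_zero.1 h]; symm; ext p; simp [mem_support₂])
      rwa [this] at hm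
    · exact Or.inl h
    · exact Or.inr (Or.inl h)
    · exact Or.inr (Or.inr h)
    · exfalso
      refine hn (co0_ext fun v => ?_)
      have hu : support₂ w = Finset.univ := Finset.eq_univ_of_card _ (h.trans (by rfl))
      rw [hm, ← act_coe nEl, nEl_act v.2]
      funext p
      have hp : w p ≠ 0 := mem_support₂.1 (hu ▸ Finset.mem_univ p)
      simp [sgn, prm, hp]
  have ho : orderOf σ = 2 := by
    haveI : Fact (Nat.Prime 2) := ⟨Nat.prime_two⟩
    exact orderOf_eq_prime (by rw [sq, hσ2]) hσ1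
  have key : ∀ (l : List ℕ) (reps : List (ℕ × List ℕ × ℕ × ℕ)) (vs : List ℕ), lok l = true →
      (lperm l).symm = lperm l → coverOk l reps vs = true → (∃ a ∈ M24, a * σ * a⁻¹ = lperm l) →
      ∃ (k : ↥Co0) (c : GolayPt → ZMod 2), c ∈ golayCode ∧ IsMono (k * g * k⁻¹) 1 c ∧
        ((support₂ c).card = 8 ∨ (support₂ c).card = 12 ∨ (support₂ c).card = 16) := by
    rintro l reps vs hl hinv hcov ⟨a, ha, e⟩
    obtain ⟨p, hp⟩ := exists_prm ha
    have hpm : IsMono p a 0 := fun v => by rw [hp]; funext q; simp [sgn]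
    have hg' : IsMono (p * g * p⁻¹) (lperm l) (actW a w) := by
      intro v
      have hpi : IsMono p⁻¹ a⁻¹ 0 := fun u => by
        have := hp (p⁻¹ • u)
        rw [smul_inv_smul] at this
        rw [this, prm_inv_left]
        funext q; simp [sgn]
      rw [mono_mul (mono_mul hpm hm) hpi v, e]
      congr 1
      funext q
      simp [actW]
    have hfix : actW (lperm l) (actW a w) = actW a w := by
      rw [← e]
      funext q
      have hq := congrFun hw2 (a.symm q)
      simp only [Pi.add_apply, actW, Pi.zero_apply] at hq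
      simp only [actW, Equiv.Perm.mul_def, Equiv.Perm.inv_def, Equiv.symm_trans_apply, Equiv.symm_symm,
        Equiv.symm_apply_apply]
      exact (CharTwo.add_eq_zero.1 hq).symm
    obtain ⟨k, c, hc, hk, hcard⟩ := cover_sound hl hinv hcov (actW_mem ha hw) hfix hg'
    refine ⟨k * p, c, hc, ?_, hcard⟩
    rwa [show k * p * g * (k * p)⁻¹ = k * (p * g * p⁻¹) * k⁻¹ by group]
  rcases invol_by_fix hσ ho with ⟨-, a, ha, e⟩ | ⟨-, -, a, ha, e⟩
  · exact key _ _ _ invol_free_ok.1 (lperm_symm invol_free_ok.1 invol_symm.1) cover_free ⟨a, ha, e⟩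
  · exact key _ _ _ invol_free_ok.2.1 (lperm_symm invol_free_ok.2.1 invol_symm.2) cover_fixed ⟨a, ha, e⟩

/-- every involution is conjugate to a monomial one -/
theorem invol_conj_std {g : ↥Co0} (hg : g * g = 1) : ∃ k : ↥Co0, StdStab (k * g * k⁻¹) := by
  haveI := co0_finite
  haveI : Fact (Nat.Prime 2) := ⟨Nat.prime_two⟩
  have hp : IsPGroup 2 ↥(Subgroup.zpowers g) := by
    rintro ⟨x, hx⟩
    obtain ⟨n, rfl⟩ := Subgroup.mem_zpowers_iff.1 hx
    refine ⟨1, Subtype.ext ?_⟩
    show (g ^ n) ^ (2 ^ 1) = 1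
    rw [pow_one, sq, ← (Commute.refl g).mul_zpow, hg, one_zpow]
  have hidx : monoSub.index = 8292375 := by
    have := monoSub.card_mul_index
    rw [card_monoSub, card_co0] at this
    omega
  have hX : ¬ 2 ∣ Nat.card (↥Co0 ⧸ monoSub) := by
    rw [← Subgroup.index_eq_card, hidx]; norm_num
  obtain ⟨q, hq⟩ := hp.nonempty_fixed_point_of_prime_not_dvd_card (↥Co0 ⧸ monoSub) hX
  obtain ⟨a, rfl⟩ := QuotientGroup.mk_surjective q
  refine ⟨a⁻¹, ?_⟩
  rw [inv_inv, ← mem_monoSub]
  have := hq ⟨g, Subgroup.mem_zpowers g⟩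
  have h2 : (QuotientGroup.mk (g * a) : ↥Co0 ⧸ monoSub) = QuotientGroup.mk a := this
  have h3 := QuotientGroup.eq.1 h2.symm
  rwa [← mul_assoc] at h3

theorem invol_sign {g : ↥Co0} (hg : g * g = 1) (h1 : g ≠ 1) (hn : g ≠ nEl) :
    ∃ (k : ↥Co0) (c : GolayPt → ZMod 2), c ∈ golayCode ∧ IsMono (k * g * k⁻¹) 1 c ∧
      ((support₂ c).card = 8 ∨ (support₂ c).card = 12 ∨ (support₂ c).card = 16) := by
  obtain ⟨a, ha⟩ := invol_conj_std hg
  have hz := Subgroup.mem_center_iff.1 nEl_center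
  obtain ⟨k, c, hc, hk, hcard⟩ := mono_invol (g := a * g * a⁻¹)
    (by rw [show a * g * a⁻¹ * (a * g * a⁻¹) = a * (g * g) * a⁻¹ by group, hg, mul_one, mul_inv_cancel])
    (fun e => h1 (conj_eq_one_iff.1 e))
    (fun e => hn (by
      rw [mul_inv_eq_iff_eq_mul, ← hz a] at e
      exact mul_left_cancel e)) ha
  refine ⟨k * a, c, hc, ?_, hcard⟩
  rwa [show k * a * g * (k * a)⁻¹ = k * (a * g * a⁻¹) * k⁻¹ by group]

/-! ### conjugate sign changes -/

theorem sign_conj {g h : ↥Co0} {c d : GolayPt → ZMod 2} (hg : IsMono g 1 c) (hh : IsMono h 1 d)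
    (e : ∃ σ ∈ M24, σ • support₂ c = support₂ d) : ∃ k : ↥Co0, k * g * k⁻¹ = h := by
  obtain ⟨σ, hσ, e⟩ := e
  obtain ⟨p, hp⟩ := exists_prm hσ
  have hpm : IsMono p σ 0 := fun v => by rw [hp]; funext q; simp [sgn]
  refine ⟨p, ?_⟩
  rw [mul_inv_eq_iff_eq_mul]
  refine co0_ext fun v => ?_
  rw [mono_mul hpm hg v, mono_mul hh hpm v, mul_one, one_mul, zero_add]
  congr 1
  refine support₂_injective ?_
  rw [support₂_actW, e]
  ext q
  simp [mem_support₂, actW]

theorem sign_conj_card {g h : ↥Co0} {c d : GolayPt → ZMod 2} (hc : c ∈ golayCode) (hd : d ∈ golayCode)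
    (hg : IsMono g 1 c) (hh : IsMono h 1 d) (hcard : (support₂ c).card = (support₂ d).card)
    (h3 : (support₂ c).card = 8 ∨ (support₂ c).card = 12 ∨ (support₂ c).card = 16) :
    ∃ k : ↥Co0, k * g * k⁻¹ = h := by
  rcases h3 with e | e | e
  · exact sign_conj hg hh (octad_trans ⟨⟨c, hc, rfl⟩, e⟩ ⟨⟨d, hd, rfl⟩, hcard ▸ e⟩)
  · exact sign_conj hg hh (dodecad_trans ⟨⟨c, hc, rfl⟩, e⟩ ⟨⟨d, hd, rfl⟩, hcard ▸ e⟩)
  · have hcompl : ∀ {u : GolayPt → ZMod 2}, u ∈ golayCode → (support₂ u).card = 16 →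
        (Finset.univ \ support₂ u) ∈ octads := by
      intro u hu hcu
      refine ⟨⟨u + 1, add_mem hu one_word_mem, ?_⟩, ?_⟩
      · ext p
        simp only [mem_support₂, Pi.add_apply, Pi.one_apply, Finset.mem_sdiff, Finset.mem_univ, true_and]
        generalize u p = a
        revert a; decide
      · rw [Finset.card_sdiff, Finset.inter_univ, hcu]; rfl
    obtain ⟨σ, hσ, eσ⟩ := octad_trans (hcompl hc e) (hcompl hd (hcard ▸ e))
    refine sign_conj hg hh ⟨σ, hσ, ?_⟩
    have huniv : σ • (Finset.univ : Finset GolayPt) = Finset.univ := Finset.smul_finset_univ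
    rw [Finset.smul_finset_sdiff, huniv] at eσ
    have := congrArg (fun s => Finset.univ \ s) eσ
    simpa using this

end Cfsg.Agent.Spor.CoZeroStandard
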