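/-
A standard subgroup isomorphic to Co0 whose centralizer has cyclic Sylow 2-subgroups: the local structure at the
central involution.
-/
import Cfsg.Agent.Lib.Lie.ConwayOneOut.Main
import Cfsg.Agent.Lib.Spor.Co1Invol.Kernel
import Cfsg.Prelude.Def_Local
import Cfsg.Prelude.Def_KGroupFacts

set_option autoImplicit false

namespace Cfsg.Agent.Spor.CoZeroStandard

open Cfsg Cfsg.Agent.Spor Cfsg.Agent.Spor.Co1Invol
open scoped Pointwise

theorem nEl_sq : nEl * nEl = 1 := congrArg Subtype.val nC_sq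

theorem nEl_ne_one : nEl ≠ 1 := fun h => nC_not_mem (by
  rw [show nC = (1 : ↥C0) from Subtype.ext h]; exact one_mem _)

/-- every automorphism of Co0 is inner -/
theorem co0_aut_inner (hP : Group.IsPerfect ↥Co0) (φ : ↥Co0 ≃* ↥Co0) :
    ∃ a : ↥Co0, ∀ x, φ x = a * x * a⁻¹ := by
  have hmap : (Subgroup.center ↥Co0).map φ.toMonoidHom = Subgroup.center ↥Co0 := by
    ext x
    simp only [Subgroup.mem_map, MulEquiv.coe_toMonoidHom, Subgroup.mem_center_iff]
    constructor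
    · rintro ⟨y, hy, rfl⟩ g
      obtain ⟨g', rfl⟩ := φ.surjective g
      rw [← map_mul, ← map_mul, hy g']
    · intro hx
      refine ⟨φ.symm x, fun g => φ.injective ?_, φ.apply_symm_apply x⟩
      rw [map_mul, map_mul, φ.apply_symm_apply, hx]
  let ψ : MulAut (↥Co0 ⧸ Subgroup.center ↥Co0) :=
    QuotientGroup.congr (Subgroup.center ↥Co0) (Subgroup.center ↥Co0) φ hmap
  have hsub : Subsingleton (Cfsg.Out (↥Co0 ⧸ Subgroup.center ↥Co0)) := by
    exact (Nat.card_eq_one_iff_unique.1 Cfsg.Agent.Lie.ConwayOneOut.out_card).1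
  have hψ : ψ ∈ Cfsg.Inn (↥Co0 ⧸ Subgroup.center ↥Co0) :=
    (QuotientGroup.eq_one_iff ψ).1 (Subsingleton.elim (α := Cfsg.Out (↥Co0 ⧸ Subgroup.center ↥Co0)) _ _)
  obtain ⟨q, hq⟩ := hψ
  obtain ⟨a, rfl⟩ := QuotientGroup.mk_surjective q
  refine ⟨a, ?_⟩
  have hdiff : ∀ x, (a * x * a⁻¹)⁻¹ * φ x ∈ Subgroup.center ↥Co0 := by
    intro x
    refine QuotientGroup.eq.1 ?_
    have h := DFunLike.congr_fun hq (QuotientGroup.mk x)
    rw [MulAut.conj_apply] at h
    exact h
  let χ : ↥Co0 →* ↥(Subgroup.center ↥Co0) := MonoidHom.mk' (fun x => ⟨_, hdiff x⟩) fun x y => by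
    refine Subtype.ext ?_
    have hc := Subgroup.mem_center_iff.1 (hdiff x)
    show (a * (x * y) * a⁻¹)⁻¹ * φ (x * y) = (a * x * a⁻¹)⁻¹ * φ x * ((a * y * a⁻¹)⁻¹ * φ y)
    calc (a * (x * y) * a⁻¹)⁻¹ * φ (x * y)
        = (a * y * a⁻¹)⁻¹ * ((a * x * a⁻¹)⁻¹ * φ x) * φ y := by rw [map_mul]; group
      _ = (a * x * a⁻¹)⁻¹ * φ x * (a * y * a⁻¹)⁻¹ * φ y := by rw [hc]
      _ = _ := by group
  have hχ : ∀ x, χ x = 1 := by
    intro x
    have hle : commutator ↥Co0 ≤ χ.ker := by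
      rw [commutator_def, Subgroup.commutator_le]
      intro u _ v _
      rw [MonoidHom.mem_ker, map_commutatorElement]
      refine commutatorElement_eq_one_iff_mul_comm.2 (Subtype.ext ?_)
      exact (Subgroup.mem_center_iff.1 (χ u).2 _).symm
    exact hle (hP.commutator_eq_top ▸ Subgroup.mem_top x)
  intro x
  exact (inv_mul_eq_one.1 (congrArg Subtype.val (hχ x))).symm

/-- the situation at the central involution of a component Co0 -/
structure Comp (G : Type*) [Group G] where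
  /-- the embedding -/
  emb : ↥Co0 →* G
  emb_inj : Function.Injective emb
  split : ∀ g : G, Commute g (emb nEl) →
    ∃ a : ↥Co0, ∃ c ∈ Subgroup.centralizer (Set.range emb), g = emb a * c
  /-- generator of a Sylow 2-subgroup of the centralizer -/
  gen : G
  /-- its order is 2 to the power rk + 1 -/
  rk : ℕ
  gen_mem : gen ∈ Subgroup.centralizer (Set.range emb)
  gen_pow : gen ^ (2 ^ rk) = emb nEl
  two_elem : ∀ x ∈ Subgroup.centralizer (Set.range emb), ∀ m : ℕ, x ^ (2 ^ m) = 1 →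
    ∃ h ∈ Subgroup.centralizer (Set.range emb), ∃ i : ℕ, x = h * gen ^ i * h⁻¹
  abel : ∀ M : Subgroup G, M ≤ Subgroup.centralizer (Set.range emb) →
    (∀ x ∈ M, ∀ c ∈ Subgroup.centralizer (Set.range emb), c * x * c⁻¹ ∈ M) → IsPGroup 2 ↥M →
    ∀ x ∈ M, ∀ y ∈ M, Commute x y

theorem exists_comp {G : Type*} [Group G] [Finite G] (A : Subgroup G) (hA : Cfsg.IsStandardSubgroup A)
    (e : ↥A ≃* ↥Cfsg.Co0)
    (hR : ∀ R : Sylow 2 ↥(Subgroup.centralizer (A : Set G)),
      IsCyclic ↥(R : Subgroup ↥(Subgroup.centralizer (A : Set G)))) :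
    ∃ S : Comp G, S.emb.range = A ∧ ∀ g : G, Commute g (S.emb nEl) → g ∈ Subgroup.normalizer (A : Set G) := by
  haveI : Fact (Nat.Prime 2) := ⟨Nat.prime_two⟩
  obtain ⟨⟨hperf, -⟩, ⟨-, hte⟩, -, hnorm⟩ := hA
  haveI := hperf
  have hP : Group.IsPerfect ↥Co0 := Group.IsPerfect.ofSurjective (f := e.toMonoidHom) e.surjective
  set ι : ↥Co0 →* G := A.subtype.comp e.symm.toMonoidHom with hι
  have hinj : Function.Injective ι := A.subtype_injective.comp e.symm.injective
  have hrange : ι.range = A := by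
    rw [hι, MonoidHom.range_comp, MonoidHom.range_eq_top.2 e.symm.surjective, ← MonoidHom.range_eq_map,
      Subgroup.range_subtype]
  have hset : Set.range ι = (A : Set G) := by rw [← hrange, MonoidHom.coe_range]
  set C := Subgroup.centralizer (A : Set G) with hC
  set z := ι nEl with hz
  have hzz : z * z = 1 := by rw [hz, ← map_mul, nEl_sq, map_one]
  have hz1 : z ≠ 1 := fun h => nEl_ne_one (hinj (by rw [map_one]; exact h))
  have hzo : orderOf z = 2 := orderOf_eq_prime (by rw [sq, hzz]) hz1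
  have hzC : z ∈ C := by
    rw [hC, ← hset, Subgroup.mem_centralizer_iff]
    rintro _ ⟨y, rfl⟩
    rw [hz, ← map_mul, ← map_mul, Subgroup.mem_center_iff.1 nEl_center y]
  have hzA : z ∈ A := hrange ▸ ⟨nEl, rfl⟩
  have hnz : ∀ g : G, Commute g z → g ∈ Subgroup.normalizer (A : Set G) := by
    intro g hg
    rw [hnorm]
    by_contra hne
    have hev : 2 ∣ Nat.card ↥(C ⊓ C.map (MulAut.conj g).toMonoidHom) := by
      refine hzo ▸ Subgroup.orderOf_dvd_natCard _ ⟨hzC, z, hzC, ?_⟩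
      show g * z * g⁻¹ = z
      rw [hg.eq, mul_inv_cancel_right]
    exact (Nat.not_even_iff_odd.2 (hte g hne)) (even_iff_two_dvd.2 hev)
  -- splitting
  have hsplit : ∀ g : G, Commute g z → ∃ a : ↥Co0, ∃ c ∈ C, g = ι a * c := by
    intro g hg
    have hgN := hnz g hg
    let φ : ↥Co0 ≃* ↥Co0 := (e.symm.trans (A.normalizerMonoidHom ⟨g, hgN⟩)).trans e
    obtain ⟨a, ha⟩ := co0_aut_inner hP φ
    have hφ : ∀ x, ι (φ x) = g * ι x * g⁻¹ := fun x => by
      show ((e.symm (e _) : ↥A) : G) = _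
      rw [e.symm_apply_apply]
      rfl
    refine ⟨a, (ι a)⁻¹ * g, ?_, by group⟩
    rw [hC, ← hset, Subgroup.mem_centralizer_iff]
    rintro _ ⟨x, rfl⟩
    have h := hφ x
    rw [ha, map_mul, map_mul, map_inv] at h
    have h2 : g * ι x = ι a * ι x * (ι a)⁻¹ * g := by rw [h, inv_mul_cancel_right]
    rw [mul_assoc _ g, h2]
    group
  -- the Sylow subgroup
  obtain ⟨R⟩ : Nonempty (Sylow 2 ↥C) := inferInstance
  obtain ⟨r, hr⟩ := (hR R).exists_generator
  have helem : ∀ x : ↥C, ∀ m : ℕ, x ^ (2 ^ m) = 1 → ∃ h : ↥C, ∃ i : ℕ, x = h * (r : ↥C) ^ i * h⁻¹ := by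
    intro x m hx
    obtain ⟨k, -, hk⟩ := (Nat.dvd_prime_pow Nat.prime_two).1 (orderOf_dvd_of_pow_eq_one hx)
    obtain ⟨P, hxP⟩ := (IsPGroup.of_card (n := k)
      (by rw [Nat.card_zpowers, hk]) : IsPGroup 2 ↥(Subgroup.zpowers x)).exists_le_sylow
    obtain ⟨h, hh⟩ := MulAction.exists_smul_eq ↥C R P
    have hx' : x ∈ ((h • R : Sylow 2 ↥C) : Subgroup ↥C) := hh ▸ hxP (Subgroup.mem_zpowers x)
    rw [Sylow.coe_subgroup_smul, Subgroup.mem_pointwise_smul_iff_inv_smul_mem] at hx'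
    obtain ⟨i, hi⟩ := (mem_powers_iff_mem_zpowers (G := ↥(R : Subgroup ↥C)) (x := r)).2
      (hr ⟨_, hx'⟩)
    refine ⟨h, i, ?_⟩
    have hi' : (r : ↥C) ^ i = h⁻¹ * x * h := by
      have := congrArg Subtype.val hi
      simpa [MulAut.smul_def, mul_assoc] using this
    rw [hi']; group
  set zc : ↥C := ⟨z, hzC⟩ with hzc
  have hzcen : ∀ h : ↥C, h * zc = zc * h := fun h =>
    Subtype.ext (Subgroup.mem_centralizer_iff.1 h.2 z hzA).symm
  obtain ⟨h0, i0, hi0⟩ := helem zc 1 (Subtype.ext (by show z ^ (2 ^ 1) = 1; rw [pow_one, sq, hzz]))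
  have hzr : (r : ↥C) ^ i0 = zc := by
    have e1 : h0 * (r : ↥C) ^ i0 = zc * h0 := by rw [hi0]; group
    rw [← hzcen h0] at e1
    exact mul_left_cancel e1
  obtain ⟨n, hn⟩ := IsPGroup.iff_card.1 R.2
  have hord : orderOf (r : ↥C) = 2 ^ n := by
    rw [← hn, Subgroup.orderOf_coe, orderOf_eq_card_of_forall_mem_zpowers hr]
  have hzc2 : orderOf zc = 2 := by
    refine orderOf_eq_prime (Subtype.ext (by show z ^ 2 = 1; rw [sq, hzz])) ?_
    exact fun h => hz1 (congrArg Subtype.val h)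
  have hmod : (r : ↥C) ^ (i0 % 2 ^ n) = zc := by rw [← hord, pow_mod_orderOf, hzr]
  obtain ⟨m, rfl⟩ : ∃ m, n = m + 1 := by
    refine Nat.exists_eq_succ_of_ne_zero fun h => ?_
    rw [h, pow_zero, Nat.mod_one, pow_zero] at hmod
    rw [← hmod, orderOf_one] at hzc2
    norm_num at hzc2
  have hval : i0 % 2 ^ (m + 1) = 2 ^ m := by
    have hlt := Nat.mod_lt i0 (show 2 ^ (m + 1) > 0 by positivity)
    have hdvd : 2 ^ (m + 1) ∣ i0 % 2 ^ (m + 1) * 2 := by
      rw [← hord]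
      refine orderOf_dvd_of_pow_eq_one ?_
      rw [pow_mul, hord, hmod, ← hzc2, pow_orderOf_eq_one]
    have hne : i0 % 2 ^ (m + 1) ≠ 0 := by
      intro h
      rw [h, pow_zero] at hmod
      rw [← hmod, orderOf_one] at hzc2
      norm_num at hzc2
    obtain ⟨q, hq⟩ := hdvd
    generalize i0 % 2 ^ (m + 1) = b at hlt hq hne ⊢
    rw [pow_succ] at hlt hq
    generalize 2 ^ m = a at hlt hq ⊢
    have hq2 : q < 2 := by
      by_contra hcon
      have : a * 2 * 2 ≤ a * 2 * q := Nat.mul_le_mul le_rfl (not_lt.1 hcon)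
      omega
    interval_cases q <;> omega
  rw [hval] at hmod
  refine ⟨{ emb := ι
            emb_inj := hinj
            split := fun g hg => ?_
            gen := ((r : ↥C) : G)
            rk := m
            gen_mem := ?_
            gen_pow := congrArg Subtype.val hmod
            two_elem := ?_
            abel := ?_ }, hrange, hnz⟩
  · rw [hset]; exact hsplit g hg
  · rw [hset]; exact ((r : ↥C)).2
  · rw [hset]
    intro x hx k hk
    obtain ⟨h, i, hi⟩ := helem ⟨x, hx⟩ k (Subtype.ext hk)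
    refine ⟨h, h.2, i, ?_⟩
    have := congrArg Subtype.val hi
    push_cast at this
    exact this
  · rw [hset]
    intro M hle hn hM x hx y hy
    haveI : (M.subgroupOf C).Normal := ⟨fun u hu c => hn _ hu _ c.2⟩
    obtain ⟨P, hMP⟩ := (hM.comap_of_injective C.subtype C.subtype_injective :
      IsPGroup 2 ↥(M.subgroupOf C)).exists_le_sylow
    haveI := hR P
    letI := IsCyclic.commGroup (α := ↥(P : Subgroup ↥C))
    have := congrArg (fun u : ↥(P : Subgroup ↥C) => ((u : ↥C) : G))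
      (mul_comm (⟨⟨x, hle hx⟩, hMP hx⟩ : ↥(P : Subgroup ↥C)) ⟨⟨y, hle hy⟩, hMP hy⟩)
    exact this

end Cfsg.Agent.Spor.CoZeroStandard
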