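/-
The central involution of a component Co0 is conjugate to no other involution of its centralizer.
-/
import Cfsg.Agent.Lib.Spor.CoZeroStandard.Local
import Cfsg.Agent.Lib.Spor.CoZeroStandard.Invol
import Cfsg.Agent.Lib.Spor.Co1Invol.Main

set_option autoImplicit false
set_option maxRecDepth 100000

namespace Cfsg.Agent.Spor.CoZeroStandard

open Cfsg Cfsg.Agent.Spor Cfsg.Agent.Spor.Co1Invol
open scoped Pointwise

/-! ### sign changes -/

/-- the sign change of a code word -/
noncomputable def sE (c : GolayPt → ZMod 2) : ↥Co0 :=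
  haveI := Classical.dec (c ∈ golayCode)
  if h : c ∈ golayCode then Classical.choose (exists_sgn h) else 1

theorem sE_mono {c : GolayPt → ZMod 2} (h : c ∈ golayCode) : IsMono (sE c) 1 c := fun v => by
  rw [sE, dif_pos h, Classical.choose_spec (exists_sgn h) v]
  rfl

theorem mono_eq {g h : ↥Co0} {σ : Equiv.Perm GolayPt} {w : GolayPt → ZMod 2} (hg : IsMono g σ w)
    (hh : IsMono h σ w) : g = h := co0_ext fun v => (hg v).trans (hh v).symm

theorem sE_add {c d : GolayPt → ZMod 2} (hc : c ∈ golayCode) (hd : d ∈ golayCode) :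
    sE c * sE d = sE (c + d) := by
  refine mono_eq (σ := 1) (w := c + d) (fun v => ?_) (sE_mono (add_mem hc hd))
  rw [mono_mul (sE_mono hc) (sE_mono hd) v, mul_one]
  rfl

theorem sE_sq {c : GolayPt → ZMod 2} (hc : c ∈ golayCode) : sE c * sE c = 1 := by
  rw [sE_add hc hc]
  refine mono_one ?_
  have : c + c = 0 := funext fun p => CharTwo.add_self_eq_zero _
  rw [this]
  exact sE_mono (zero_mem _)

theorem sE_one : sE 1 = nEl := by
  refine mono_eq (σ := 1) (w := 1) (sE_mono one_word_mem) fun v => ?_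
  rw [← act_coe, nEl_act v.2]
  funext k; simp [sgn, prm, symm_one]

theorem sE_inj {c d : GolayPt → ZMod 2} (hc : c ∈ golayCode) (hd : d ∈ golayCode) (h : sE c = sE d) :
    c = d :=
  (mono_unique (σ := 1) (τ := 1) fun v => by rw [← sE_mono hc v, ← sE_mono hd v, h]).2

theorem eps_sE : eps = sE octW := mono_eq eps_mono (sE_mono octW_mem)

theorem card_add_one (c : GolayPt → ZMod 2) : (support₂ (c + 1)).card = 24 - (support₂ c).card := by
  have e : support₂ (c + 1) = (support₂ c)ᶜ := by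
    ext p
    simp only [mem_support₂, Finset.mem_compl, Pi.add_apply, Pi.one_apply]
    generalize c p = a
    revert a; decide
  rw [e, Finset.card_compl]
  rfl

theorem word_facts : inCode 10558 = true ∧ inCode 15777 = true ∧ inCode 165759 = true ∧
    pc 5279 = 8 ∧ pc 10558 = 8 ∧ pc (5279 ^^^ 10558) = 8 ∧ pc 165759 = 12 ∧ pc 15777 = 8 ∧
    pc (165759 ^^^ 15777) = 12 := by decide +kernel

theorem card_ofMaskW {m : ℕ} (h : m < 2 ^ 24) : (support₂ (ofMaskW m)).card = pc m := by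
  rw [support₂_ofMaskW, ← pc_mask, mask_ofMask h]

theorem code_ofMaskW {m : ℕ} (h : inCode m = true) : ofMaskW m ∈ golayCode :=
  ofMaskW_code (inCode_mem h)

theorem card_ofMaskW_add {a b : ℕ} (ha : inCode a = true) (hb : inCode b = true) :
    (support₂ (ofMaskW a + ofMaskW b)).card = pc (a ^^^ b) := by
  rw [ofMaskW_xor (inCode_mem ha) (inCode_mem hb), card_ofMaskW
    (codeMasks_lt _ (codeMasks_xor (inCode_mem ha) (inCode_mem hb)))]

theorem inCode_oct : inCode 5279 = true := by decide +kernel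

theorem octW_card : (support₂ octW).card = 8 := by
  rw [card_ofMaskW (by norm_num), word_facts.2.2.2.1]

/-- the centraliser of negated eps is that of eps -/
theorem comm_zeps {a : ↥Co0} : Commute a (nEl * eps) ↔ Commute a eps := by
  have hz := Subgroup.mem_center_iff.1 nEl_center a
  constructor
  · intro h
    have h2 := (Commute.mul_right hz h)
    rwa [← mul_assoc, nEl_sq, one_mul] at h2
  · exact fun h => Commute.mul_right hz h

theorem eleven_not_dvd : ¬ 11 ∣ Nat.card ↥C0 := by rw [card_C0]; norm_num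

theorem eleven_dvd {c : GolayPt → ZMod 2} (hc : c ∈ golayCode) (h12 : (support₂ c).card = 12) :
    11 ∣ Nat.card ↥(Subgroup.centralizer ({sE c} : Set ↥Co0)) := by
  haveI := co0_finite
  haveI : Fact (Nat.Prime 11) := ⟨by norm_num⟩
  have hd : support₂ c ∈ dodecads := ⟨⟨c, hc, rfl⟩, h12⟩
  obtain ⟨⟨⟨σ, hσ⟩, hst⟩, hord⟩ := exists_prime_orderOf_dvd_card'
    (G := ↥(MulAction.stabilizer M24 (support₂ c))) 11 (by rw [card_stab_dodecad hd]; norm_num)
  have hσo : orderOf σ = 11 := by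
    rw [Subgroup.orderOf_mk, Subgroup.orderOf_mk] at hord; exact hord
  obtain ⟨p, hp⟩ := exists_prm hσ
  have hpm : IsMono p σ 0 := fun v => by rw [hp]; funext q; simp [sgn]
  have hpow : ∀ k : ℕ, IsMono (p ^ k) (σ ^ k) 0 := by
    intro k
    induction k with
    | zero => intro v; rw [pow_zero, pow_zero, one_smul]; funext q; simp [sgn, prm, symm_one]
    | succ k ih =>
      intro v
      rw [pow_succ, pow_succ, mono_mul ih hpm v]
      congr 1
      try (funext q; simp [actW])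
  have hmem : p ∈ Subgroup.centralizer ({sE c} : Set ↥Co0) := by
    rw [Subgroup.mem_centralizer_singleton_iff]
    refine co0_ext fun v => ?_
    rw [mono_mul (sE_mono hc) hpm v, mono_mul hpm (sE_mono hc) v, one_mul, mul_one]
    congr 1
    refine support₂_injective ?_
    have h2 : σ • support₂ c = support₂ c := hst
    rw [zero_add, support₂_actW, h2]
    ext q
    simp [mem_support₂, actW, symm_one]
  have hpo : orderOf p = 11 := by
    refine orderOf_eq_prime ?_ ?_
    · refine mono_one ?_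
      have := hpow 11
      rwa [show σ ^ 11 = 1 by rw [← hσo, pow_orderOf_eq_one]] at this
    · intro h1
      have h2 : σ = 1 := (mono_unique (w := 0) (w' := 0) fun v => by
        rw [← hpm v, h1, one_smul]; funext q; simp [sgn, prm, symm_one]).1
      rw [h2, orderOf_one] at hσo
      norm_num at hσo
  exact hpo ▸ Subgroup.orderOf_dvd_natCard _ hmem

theorem phi_two {a : ↥C0} {m : ℕ} (h : a ^ (2 ^ m) = 1 ∨ a ^ (2 ^ m) = nC) :
    phi.rangeRestrict a ^ (2 ^ m) = 1 := by
  rw [← map_pow]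
  refine Subtype.ext ?_
  rcases h with h | h <;> rw [h]
  · rw [map_one]
  · exact MonoidHom.mem_ker.1 nC_ker

theorem ker_comm {a b : ↥C0} (ha : a ∈ phi.ker) (hb : b ∈ phi.ker) :
    (a : ↥Co0) * b = b * a ∨ (a : ↥Co0) * b = nEl * eps * (b * a) := by
  have hz := Subgroup.mem_center_iff.1 nEl_center
  have key : ∀ {a b : ↥C0}, a ∈ Q0 → b ∈ Q0 →
      (a : ↥Co0) * b = b * a ∨ (a : ↥Co0) * b = nEl * eps * (b * a) := by
    intro a b ha hb
    rcases comm_cases ha hb with e | e
    · exact Or.inl (congrArg Subtype.val e)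
    · exact Or.inr (congrArg Subtype.val e)
  have hn : ∀ (x : ↥Co0), ((nC : ↥Co0)) * x = x * nEl := fun x => (hz x).symm
  have flip : ∀ {x y : ↥Co0}, (nEl * x) * y = y * (nEl * x) ∨ (nEl * x) * y = nEl * eps * (y * (nEl * x)) →
      x * y = y * x ∨ x * y = nEl * eps * (y * x) := by
    intro x y h
    have e1 : y * (nEl * x) = nEl * (y * x) := by rw [← mul_assoc, hz y, mul_assoc]
    rw [e1, mul_assoc] at h
    rcases h with h | h
    · exact Or.inl (mul_left_cancel h)
    · refine Or.inr (mul_left_cancel (a := nEl) (h.trans ?_))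
      rw [← mul_assoc (nEl * eps), hz (nEl * eps), mul_assoc]
  have flip2 : ∀ {x y : ↥Co0}, x * (nEl * y) = (nEl * y) * x ∨ x * (nEl * y) = nEl * eps * ((nEl * y) * x) →
      x * y = y * x ∨ x * y = nEl * eps * (y * x) := by
    intro x y h
    have e1 : x * (nEl * y) = nEl * (x * y) := by rw [← mul_assoc, hz x, mul_assoc]
    rw [e1, mul_assoc nEl y] at h
    rcases h with h | h
    · exact Or.inl (mul_left_cancel h)
    · refine Or.inr (mul_left_cancel (a := nEl) (h.trans ?_))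
      rw [← mul_assoc (nEl * eps), hz (nEl * eps), mul_assoc]
  rcases ker_cases ha with ha | ha <;> rcases ker_cases hb with hb | hb
  · exact key ha hb
  · exact flip2 (key ha hb)
  · exact flip (key ha hb)
  · exact flip (flip2 (key ha hb))

/-! ### inside the group -/

variable {G : Type*} [Group G] [Finite G]

namespace Comp

/-- the centralizer of the component -/
abbrev cen (S : Comp G) : Subgroup G := Subgroup.centralizer (Set.range S.emb)

/-- the central involution -/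
noncomputable abbrev z (S : Comp G) : G := S.emb nEl

/-- the image of the element is conjugate to the central involution -/
def Fused (S : Comp G) (y : ↥Co0) : Prop := ∃ g : G, g * S.z * g⁻¹ = S.emb y

theorem comm_emb (S : Comp G) {c : G} (hc : c ∈ S.cen) (a : ↥Co0) : Commute (S.emb a) c :=
  Subgroup.mem_centralizer_iff.1 hc _ ⟨a, rfl⟩

theorem z_cen (S : Comp G) : S.z ∈ S.cen := by
  rw [Subgroup.mem_centralizer_iff]
  rintro _ ⟨y, rfl⟩
  rw [← map_mul, ← map_mul, Subgroup.mem_center_iff.1 nEl_center y]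

theorem z_sq (S : Comp G) : S.z * S.z = 1 := by rw [← map_mul, nEl_sq, map_one]

theorem z_ne (S : Comp G) : S.z ≠ 1 := fun h => nEl_ne_one (S.emb_inj (by rw [map_one]; exact h))

theorem emb_inter (S : Comp G) {a : ↥Co0} (h : S.emb a ∈ S.cen) : a = 1 ∨ a = nEl := by
  refine center_two (Subgroup.mem_center_iff.2 fun x => S.emb_inj ?_)
  rw [map_mul, map_mul]
  exact (S.comm_emb h x).eq

theorem gen_full (S : Comp G) : S.gen ^ (2 ^ (S.rk + 1)) = 1 := by
  rw [pow_succ, pow_mul, S.gen_pow, sq]; exact S.z_sq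

theorem two_bound (S : Comp G) {x : G} (hx : x ∈ S.cen) {m : ℕ} (h : x ^ (2 ^ m) = 1) :
    x ^ (2 ^ (S.rk + 1)) = 1 := by
  obtain ⟨k, hk, i, rfl⟩ := S.two_elem x hx m h
  rw [conj_pow, ← pow_mul, mul_comm i, pow_mul, S.gen_full, one_pow, mul_one, mul_inv_cancel]

theorem invol_cen (S : Comp G) {x : G} (hx : x ∈ S.cen) (h : x * x = 1) : x = 1 ∨ x = S.z := by
  obtain ⟨k, hk, i, e⟩ := S.two_elem x hx 1 (by rw [pow_one, sq, h])
  have hi : (S.gen ^ i) ^ 2 = 1 := by
    have : x ^ 2 = 1 := by rw [sq, h]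
    rw [e, conj_pow, conj_eq_one_iff] at this
    exact this
  have hord : orderOf S.gen = 2 ^ (S.rk + 1) := by
    haveI : Fact (Nat.Prime 2) := ⟨Nat.prime_two⟩
    exact orderOf_eq_prime_pow (fun h' => S.z_ne (S.gen_pow.symm.trans h')) S.gen_full
  rw [← pow_mul] at hi
  have hd := orderOf_dvd_of_pow_eq_one hi
  rw [hord, pow_succ] at hd
  obtain ⟨q, rfl⟩ := Nat.dvd_of_mul_dvd_mul_right (by norm_num : 0 < 2) hd
  rw [pow_mul, S.gen_pow] at e
  rcases Nat.even_or_odd' q with ⟨j, rfl | rfl⟩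
  · left
    rw [e, pow_mul, sq, S.z_sq, one_pow, mul_one, mul_inv_cancel]
  · right
    rw [e, pow_succ, pow_mul, sq, S.z_sq, one_pow, one_mul,
      show k * S.z = S.z * k from (S.comm_emb hk nEl).symm.eq, mul_inv_cancel_right]

/-- a conjugate of the generator centralising z puts the conjugate of z into the component -/
theorem core (S : Comp G) (g : G) (h : Commute (g * S.gen * g⁻¹) S.z) :
    ∃ y : ↥Co0, g * S.z * g⁻¹ = S.emb y := by
  obtain ⟨a, c, hc, e⟩ := S.split _ h
  have hcomm : Commute (S.emb a) c := S.comm_emb hc a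
  have hpow : ∀ k : ℕ, g * S.gen ^ k * g⁻¹ = S.emb (a ^ k) * c ^ k := fun k => by
    rw [← conj_pow, e, hcomm.mul_pow, map_pow]
  have hc2 : c ^ (2 ^ (S.rk + 1)) = S.emb (a ^ (2 ^ (S.rk + 1)))⁻¹ := by
    have := hpow (2 ^ (S.rk + 1))
    rw [S.gen_full, mul_one, mul_inv_cancel] at this
    rw [map_inv]
    exact (inv_eq_of_mul_eq_one_right this.symm).symm
  have hc3 : c ^ (2 ^ (S.rk + 1 + 1)) = 1 := by
    rw [pow_succ, pow_mul, hc2]
    rcases S.emb_inter (hc2 ▸ pow_mem hc _) with h1 | h1 <;> rw [h1]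
    · rw [map_one, one_pow]
    · rw [sq]; exact S.z_sq
  have hck : c ^ (2 ^ S.rk) * c ^ (2 ^ S.rk) = 1 := by
    rw [← pow_add, ← two_mul, mul_comm 2, ← pow_succ]; exact S.two_bound hc hc3
  have hz := hpow (2 ^ S.rk)
  rw [S.gen_pow] at hz
  rcases S.invol_cen (pow_mem hc _) hck with h1 | h1
  · exact ⟨a ^ (2 ^ S.rk), by rw [hz, h1, mul_one]⟩
  · exact ⟨a ^ (2 ^ S.rk) * nEl, by rw [hz, h1, map_mul]⟩

/-- commuting conjugates of the central involution lie in the component -/
theorem conj_in (S : Comp G) (g : G) (h : Commute (g * S.z * g⁻¹) S.z) :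
    ∃ y : ↥Co0, g * S.z * g⁻¹ = S.emb y := by
  obtain ⟨a, c, hc, e⟩ := S.split _ h
  have hcomm : Commute (S.emb a) c := S.comm_emb hc a
  have hsq : (g * S.z * g⁻¹) * (g * S.z * g⁻¹) = 1 := by
    rw [show g * S.z * g⁻¹ * (g * S.z * g⁻¹) = g * (S.z * S.z) * g⁻¹ by group, S.z_sq, mul_one,
      mul_inv_cancel]
  have hc2 : c ^ 2 = S.emb (a ^ 2)⁻¹ := by
    rw [e, ← sq, hcomm.mul_pow, ← map_pow] at hsq
    rw [map_inv]
    exact (inv_eq_of_mul_eq_one_right hsq).symm
  have hc4 : c ^ (2 ^ 2) = 1 := by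
    rw [show (2 : ℕ) ^ 2 = 2 * 2 from rfl, pow_mul, hc2]
    rcases S.emb_inter (hc2 ▸ pow_mem hc _) with h1 | h1 <;> rw [h1]
    · rw [map_one, one_pow]
    · rw [sq]; exact S.z_sq
  obtain ⟨k, hk, i, ek⟩ := S.two_elem c hc 2 hc4
  have hkz : Commute k S.z := (S.comm_emb hk nEl).symm
  have hx : Commute (k * S.gen * k⁻¹) (g * S.z * g⁻¹) := by
    have hxm : k * S.gen * k⁻¹ ∈ S.cen := mul_mem (mul_mem hk S.gen_mem) (inv_mem hk)
    rw [e]
    refine Commute.mul_right (S.comm_emb hxm a).symm ?_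
    rw [ek, ← conj_pow]
    exact Commute.self_pow _ _
  have h1 : Commute (g⁻¹ * k * S.gen * (g⁻¹ * k)⁻¹) S.z := by
    have := hx.map (MulAut.conj g⁻¹).toMonoidHom
    simp only [MulEquiv.coe_toMonoidHom, MulAut.conj_apply, inv_inv] at this
    convert this using 1 <;> group
  obtain ⟨y, hy⟩ := S.core (g⁻¹ * k) h1
  have hy' : g⁻¹ * S.z * g = S.emb y := by
    rw [← hy, mul_assoc g⁻¹ k, hkz.eq]
    group
  refine S.core g ?_
  have h2 : Commute S.gen (g⁻¹ * S.z * g) := hy'.symm ▸ (S.comm_emb S.gen_mem y).symm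
  have := h2.map (MulAut.conj g).toMonoidHom
  simp only [MulEquiv.coe_toMonoidHom, MulAut.conj_apply] at this
  convert this using 1
  group

theorem fused_conj (S : Comp G) {y : ↥Co0} (h : S.Fused y) (k : ↥Co0) : S.Fused (k * y * k⁻¹) := by
  obtain ⟨g, e⟩ := h
  refine ⟨S.emb k * g, ?_⟩
  rw [map_mul, map_mul, ← e, map_inv]
  group

theorem fused_conj_iff (S : Comp G) {y y' : ↥Co0} (h : ∃ k : ↥Co0, k * y * k⁻¹ = y') :
    S.Fused y ↔ S.Fused y' := by
  obtain ⟨k, rfl⟩ := h
  refine ⟨fun h => S.fused_conj h k, fun h => ?_⟩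
  have := S.fused_conj h k⁻¹
  rwa [show k⁻¹ * (k * y * k⁻¹) * k⁻¹⁻¹ = y by group] at this

theorem fused_card (S : Comp G) {c d : GolayPt → ZMod 2} (hc : c ∈ golayCode) (hd : d ∈ golayCode)
    (hcard : (support₂ c).card = (support₂ d).card)
    (h3 : (support₂ c).card = 8 ∨ (support₂ c).card = 12 ∨ (support₂ c).card = 16) :
    S.Fused (sE c) ↔ S.Fused (sE d) :=
  S.fused_conj_iff (sign_conj_card hc hd (sE_mono hc) (sE_mono hd) hcard h3)

/-- both members of the pair of an involution and its negative, by weight -/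
theorem pair_form (S : Comp G) {y : ↥Co0} (hy : y * y = 1) (h1 : y ≠ 1) (hn : y ≠ nEl) :
    ∃ c ∈ golayCode, ((support₂ c).card = 8 ∨ (support₂ c).card = 12 ∨ (support₂ c).card = 16) ∧
      (S.Fused y ↔ S.Fused (sE c)) ∧ (S.Fused (nEl * y) ↔ S.Fused (sE (c + 1))) := by
  obtain ⟨k, c, hc, hk, hcard⟩ := invol_sign hy h1 hn
  have e : k * y * k⁻¹ = sE c := mono_eq hk (sE_mono hc)
  refine ⟨c, hc, hcard, S.fused_conj_iff ⟨k, e⟩, S.fused_conj_iff ⟨k, ?_⟩⟩
  rw [← sE_add hc one_word_mem, sE_one, ← e, ← mul_assoc k, Subgroup.mem_center_iff.1 nEl_center k]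
  rw [Subgroup.mem_center_iff.1 nEl_center (k * y * k⁻¹)]
  group

/-- commuting with z and with the image of y -/
def Joint (S : Comp G) (y : ↥Co0) (x : G) : Prop := Commute x S.z ∧ Commute x (S.emb y)

theorem joint_iff (S : Comp G) {y : ↥Co0} {x : G} :
    S.Joint y x ↔ ∃ a : ↥Co0, Commute a y ∧ ∃ c ∈ S.cen, x = S.emb a * c := by
  constructor
  · rintro ⟨h1, h2⟩
    obtain ⟨a, c, hc, rfl⟩ := S.split x h1
    refine ⟨a, S.emb_inj ?_, c, hc, rfl⟩
    rw [map_mul, map_mul]
    have h3 : Commute (S.emb a * c * c⁻¹) (S.emb y) := h2.mul_left (S.comm_emb hc y).symm.inv_left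
    rwa [mul_inv_cancel_right] at h3
  · rintro ⟨a, ha, c, hc, rfl⟩
    refine ⟨Commute.mul_left ?_ (S.comm_emb hc nEl).symm, Commute.mul_left (ha.map S.emb) (S.comm_emb hc y).symm⟩
    exact Commute.map (Subgroup.mem_center_iff.1 nEl_center a) S.emb

/-- the product map -/
noncomputable def prodHom (S : Comp G) (y : ↥Co0) :
    ↥(Subgroup.centralizer ({y} : Set ↥Co0)) × ↥S.cen →* G :=
  MonoidHom.mk' (fun q => S.emb q.1 * q.2) fun p q => by
    show S.emb ((p.1 : ↥Co0) * q.1) * ((p.2 : G) * q.2) = S.emb p.1 * p.2 * (S.emb q.1 * q.2)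
    rw [map_mul]
    calc S.emb p.1 * S.emb q.1 * ((p.2 : G) * q.2)
        = S.emb p.1 * (S.emb q.1 * (p.2 : G)) * q.2 := by group
      _ = S.emb p.1 * ((p.2 : G) * S.emb q.1) * q.2 := by rw [(S.comm_emb p.2.2 _).eq]
      _ = _ := by group

theorem card_joint (S : Comp G) (y : ↥Co0) :
    2 * {x : G | S.Joint y x}.ncard =
      Nat.card ↥(Subgroup.centralizer ({y} : Set ↥Co0)) * Nat.card ↥S.cen := by
  haveI := co0_finite
  have hrange : ((S.prodHom y).range : Set G) = {x | S.Joint y x} := by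
    ext x
    simp only [MonoidHom.coe_range, Set.mem_range, Set.mem_setOf_eq, S.joint_iff]
    constructor
    · rintro ⟨⟨a, c⟩, rfl⟩
      exact ⟨a, (Subgroup.mem_centralizer_singleton_iff.1 a.2), c, c.2, rfl⟩
    · rintro ⟨a, ha, c, hc, rfl⟩
      exact ⟨⟨⟨a, Subgroup.mem_centralizer_singleton_iff.2 ha⟩, ⟨c, hc⟩⟩, rfl⟩
  have hker : Nat.card ↥(S.prodHom y).ker = 2 := by
    have hn : nEl ∈ Subgroup.centralizer ({y} : Set ↥Co0) :=
      Subgroup.mem_centralizer_singleton_iff.2 (Subgroup.mem_center_iff.1 nEl_center y).symm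
    rw [Nat.card_eq_two_iff]
    refine ⟨1, ⟨(⟨nEl, hn⟩, ⟨S.z, S.z_cen⟩), MonoidHom.mem_ker.2 S.z_sq⟩, fun h => ?_,
      Set.eq_univ_of_forall ?_⟩
    · have := congrArg (fun u : ↥(S.prodHom y).ker => ((u.1.1 : ↥Co0))) h
      exact nEl_ne_one this.symm
    · rintro ⟨⟨a, c⟩, h⟩
      rw [MonoidHom.mem_ker] at h
      have hc : (c : G) = S.emb (a : ↥Co0)⁻¹ := by
        rw [map_inv]; exact (inv_eq_of_mul_eq_one_right h).symm
      rcases S.emb_inter (hc ▸ c.2) with e | e
      · left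
        have ea : (a : ↥Co0) = 1 := inv_eq_one.1 e
        refine Subtype.ext (Prod.ext (Subtype.ext ea) (Subtype.ext ?_))
        rw [hc, e, map_one]; rfl
      · right
        have ea : (a : ↥Co0) = nEl := by
          rw [← inv_inv (a : ↥Co0), e]; exact inv_eq_of_mul_eq_one_right nEl_sq
        refine Subtype.ext (Prod.ext (Subtype.ext ea) (Subtype.ext ?_))
        rw [hc, e]
  have h := Subgroup.card_mul_index (S.prodHom y).ker
  rw [hker, Subgroup.index_ker, Nat.card_prod] at h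
  rw [← hrange, ← Nat.card_coe_set_eq]
  exact h

/-- commutators inside a normal 2-subgroup of the joint centraliser -/
theorem two_comm (S : Comp G) {N : Subgroup G} (hN : IsPGroup 2 ↥N)
    (hle : ∀ x ∈ N, S.Joint (nEl * eps) x)
    (hnorm : ∀ x ∈ N, ∀ u, S.Joint (nEl * eps) u → u * x * u⁻¹ ∈ N) :
    ∀ x ∈ N, ∀ y ∈ N, x * y = y * x ∨ x * y = S.emb (nEl * eps) * (y * x) := by
  haveI := co0_finite
  have hdec : ∀ x ∈ N, ∃ a : ↥C0, ∃ c ∈ S.cen, x = S.emb a * c := by
    intro x hx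
    obtain ⟨a, ha, c, hc, e⟩ := S.joint_iff.1 (hle x hx)
    exact ⟨⟨a, mem_C0.2 (comm_zeps.1 ha).symm.eq⟩, c, hc, e⟩
  have hjoint : ∀ b : ↥C0, S.Joint (nEl * eps) (S.emb b) := fun b =>
    S.joint_iff.2 ⟨b, comm_zeps.2 (mem_C0.1 b.2).symm, 1, one_mem _, (mul_one _).symm⟩
  have hjointc : ∀ c ∈ S.cen, S.Joint (nEl * eps) c := fun c hc =>
    S.joint_iff.2 ⟨1, Commute.one_left _, c, hc, by rw [map_one, one_mul]⟩
  have hmul : ∀ {a b : ↥Co0} {c d : G}, c ∈ S.cen →
      S.emb a * c * (S.emb b * d) = S.emb (a * b) * (c * d) := by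
    intro a b c d hc
    rw [map_mul]
    calc S.emb a * c * (S.emb b * d) = S.emb a * (c * S.emb b) * d := by group
      _ = S.emb a * (S.emb b * c) * d := by rw [(S.comm_emb hc b).eq]
      _ = _ := by group
  -- the component part
  let M : Subgroup ↥C0 :=
    { carrier := {a | ∃ c ∈ S.cen, S.emb a * c ∈ N}
      one_mem' := ⟨1, one_mem _, by rw [OneMemClass.coe_one, map_one, mul_one]; exact one_mem _⟩
      mul_mem' := by
        rintro a b ⟨c, hc, ha⟩ ⟨d, hd, hb⟩
        refine ⟨c * d, mul_mem hc hd, ?_⟩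
        rw [Subgroup.coe_mul, ← hmul hc]
        exact mul_mem ha hb
      inv_mem' := by
        rintro a ⟨c, hc, ha⟩
        refine ⟨c⁻¹, inv_mem hc, ?_⟩
        have := inv_mem ha
        rwa [mul_inv_rev, ← (S.comm_emb hc _).inv_inv.eq, ← map_inv, ← Subgroup.coe_inv] at this }
  haveI : M.Normal := ⟨by
    rintro a ⟨c, hc, ha⟩ b
    refine ⟨c, hc, ?_⟩
    have := hnorm _ ha _ (hjoint b)
    convert this using 1
    rw [Subgroup.coe_mul, Subgroup.coe_mul, Subgroup.coe_inv, map_mul, map_mul, map_inv]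
    calc S.emb b * S.emb a * (S.emb b)⁻¹ * c = S.emb b * S.emb a * ((S.emb b)⁻¹ * c) := by group
      _ = S.emb b * S.emb a * (c * (S.emb b)⁻¹) := by rw [(S.comm_emb hc b).inv_left.eq]
      _ = _ := by group⟩
  have hker : M ≤ phi.ker := by
    have hp : IsPGroup 2 ↥(M.map phi.rangeRestrict) := by
      rintro ⟨_, a, ⟨c, hc, ha⟩, rfl⟩
      obtain ⟨m, hm⟩ := hN ⟨_, ha⟩
      refine ⟨m, Subtype.ext (phi_two ?_)⟩
      have h : (S.emb a * c) ^ (2 ^ m) = 1 := congrArg Subtype.val hm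
      rw [(S.comm_emb hc _).mul_pow, ← map_pow, ← Subgroup.coe_pow] at h
      rcases S.emb_inter (a := ((a ^ (2 ^ m) : ↥C0) : ↥Co0))
        (by rw [eq_inv_of_mul_eq_one_left h]; exact inv_mem (pow_mem hc _)) with e | e
      · exact Or.inl (Subtype.ext e)
      · exact Or.inr (Subtype.ext e)
    haveI : ((M.map phi.rangeRestrict).map (MulEquiv.subgroupCongr range_phi).toMonoidHom).Normal :=
      Subgroup.Normal.map (Subgroup.Normal.map inferInstance _ phi.rangeRestrict_surjective) _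
        (MulEquiv.subgroupCongr range_phi).surjective
    have hbot := omega_no_pgroup _ (hp.map (MulEquiv.subgroupCongr range_phi).toMonoidHom)
    rw [Subgroup.map_eq_bot_iff_of_injective _ (MulEquiv.subgroupCongr range_phi).injective,
      Subgroup.map_eq_bot_iff] at hbot
    intro a ha
    exact MonoidHom.mem_ker.2 (congrArg Subtype.val (MonoidHom.mem_ker.1 (hbot ha)))
  -- the part in the centralizer
  let M' : Subgroup G :=
    { carrier := {c | c ∈ S.cen ∧ ∃ a : ↥C0, S.emb a * c ∈ N}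
      one_mem' := ⟨one_mem _, 1, by rw [OneMemClass.coe_one, map_one, mul_one]; exact one_mem _⟩
      mul_mem' := by
        rintro c d ⟨hc, a, ha⟩ ⟨hd, b, hb⟩
        refine ⟨mul_mem hc hd, a * b, ?_⟩
        rw [Subgroup.coe_mul, ← hmul hc]
        exact mul_mem ha hb
      inv_mem' := by
        rintro c ⟨hc, a, ha⟩
        refine ⟨inv_mem hc, a⁻¹, ?_⟩
        have := inv_mem ha
        rwa [mul_inv_rev, ← (S.comm_emb hc _).inv_inv.eq, ← map_inv, ← Subgroup.coe_inv] at this }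
  have hab : ∀ x ∈ M', ∀ y ∈ M', Commute x y := by
    refine S.abel M' (fun c hc => hc.1) ?_ ?_
    · rintro c ⟨hc, a, ha⟩ d hd
      refine ⟨mul_mem (mul_mem hd hc) (inv_mem hd), a, ?_⟩
      have := hnorm _ ha _ (hjointc d hd)
      convert this using 1
      calc S.emb a * (d * c * d⁻¹) = S.emb a * d * (c * d⁻¹) := by group
        _ = d * S.emb a * (c * d⁻¹) := by rw [(S.comm_emb hd _).eq]
        _ = _ := by group
    · rintro ⟨c, hc, a, ha⟩
      obtain ⟨m, hm⟩ := hN ⟨_, ha⟩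
      refine ⟨m + 1, Subtype.ext ?_⟩
      show c ^ (2 ^ (m + 1)) = 1
      have h : (S.emb a * c) ^ (2 ^ m) = 1 := congrArg Subtype.val hm
      rw [(S.comm_emb hc _).mul_pow, ← map_pow] at h
      rw [pow_succ, pow_mul, ← inv_eq_of_mul_eq_one_right h]
      rcases S.emb_inter (a := (a : ↥Co0) ^ (2 ^ m))
        (by rw [eq_inv_of_mul_eq_one_left h]; exact inv_mem (pow_mem hc _)) with e | e <;> rw [e]
      · rw [map_one, inv_one, one_pow]
      · rw [inv_pow, sq, S.z_sq, inv_one]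
  intro x hx y hy
  obtain ⟨a, c, hc, rfl⟩ := hdec x hx
  obtain ⟨b, d, hd, rfl⟩ := hdec y hy
  rw [hmul hc, hmul hd, (hab c ⟨hc, a, hx⟩ d ⟨hd, b, hy⟩).eq]
  rcases ker_comm (hker ⟨c, hc, hx⟩) (hker ⟨d, hd, hy⟩) with e | e
  · left; rw [e]
  · right; rw [e, map_mul (S.emb) (nEl * eps), mul_assoc]

/-- a normal 2-subgroup of the joint centraliser with a nontrivial commutator -/
theorem two_witness (S : Comp G) :
    ∃ N : Subgroup G, IsPGroup 2 ↥N ∧ (∀ x ∈ N, S.Joint (nEl * eps) x) ∧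
      (∀ x ∈ N, ∀ u, S.Joint (nEl * eps) u → u * x * u⁻¹ ∈ N) ∧
      ∃ x ∈ N, ∃ y ∈ N, x * y = S.emb (nEl * eps) * (y * x) := by
  refine ⟨Q0.map (S.emb.comp C0.subtype), ?_, ?_, ?_, ?_⟩
  · refine IsPGroup.map ?_ _
    exact IsPGroup.of_card (n := 9) (by rw [card_Q0]; norm_num)
  · rintro _ ⟨a, -, rfl⟩
    exact S.joint_iff.2 ⟨a, comm_zeps.2 (mem_C0.1 a.2).symm, 1, one_mem _, (mul_one _).symm⟩
  · rintro _ ⟨a, ha, rfl⟩ u hu
    obtain ⟨b, hb, c, hc, rfl⟩ := S.joint_iff.1 hu
    refine ⟨⟨b, mem_C0.2 (comm_zeps.1 hb).symm.eq⟩ * a * (⟨b, mem_C0.2 (comm_zeps.1 hb).symm.eq⟩)⁻¹,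
      Q0_normal.conj_mem a ha _, ?_⟩
    show S.emb (b * (a : ↥Co0) * b⁻¹) = S.emb b * c * S.emb a * (S.emb b * c)⁻¹
    rw [map_mul, map_mul, map_inv]
    symm
    calc S.emb b * c * S.emb a * (S.emb b * c)⁻¹
        = S.emb b * (c * S.emb a) * c⁻¹ * (S.emb b)⁻¹ := by group
      _ = S.emb b * (S.emb a * c) * c⁻¹ * (S.emb b)⁻¹ := by rw [(S.comm_emb hc _).eq]
      _ = _ := by group
  · obtain ⟨a, ha, b, hb, hab⟩ : ∃ a ∈ Q0, ∃ b ∈ Q0, a * b ≠ b * a := by
      by_contra hno
      push Not at hno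
      haveI : Finite ↥QC := Nat.finite_of_card_ne_zero (by rw [card_QC]; norm_num)
      have h2 := extraspecial
      have hcomm : ∀ x y : ↥QC, x * y = y * x := by
        rintro ⟨_, u, hu, rfl⟩ ⟨_, v, hv, rfl⟩
        exact Subtype.ext (by show psi u * psi v = psi v * psi u; rw [← map_mul, ← map_mul, hno u hu v hv])
      have hbot : commutator ↥QC = ⊥ := by
        rw [commutator_def, Subgroup.commutator_eq_bot_iff_le_centralizer]
        intro x _
        rw [Subgroup.mem_centralizer_iff]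
        exact fun y _ => hcomm y x
      have hcen : Subgroup.center ↥QC = ⊥ := h2.1.2.2.symm.trans hbot
      have := h2.2
      rw [hcen, Subgroup.card_bot] at this
      norm_num at this
    refine ⟨_, ⟨a, ha, rfl⟩, _, ⟨b, hb, rfl⟩, ?_⟩
    have e := (comm_cases ha hb).resolve_left hab
    show S.emb (a : ↥Co0) * S.emb (b : ↥Co0) = S.emb (nEl * eps) * (S.emb (b : ↥Co0) * S.emb (a : ↥Co0))
    rw [← map_mul, ← map_mul, ← map_mul]
    exact congrArg S.emb (congrArg Subtype.val e)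

/-- the weight sixteen class is not fused with z -/
theorem not_sixteen (S : Comp G) : ¬ S.Fused (nEl * eps) := by
  haveI := co0_finite
  rintro ⟨g, hg⟩
  have hne : nEl * eps ≠ nEl := by
    intro h
    rw [mul_eq_left, eps_sE] at h
    have := sE_inj octW_mem (zero_mem _) (h.trans (mono_one (sE_mono (zero_mem _))).symm)
    have h8 := octW_card
    rw [this] at h8
    simp [support₂] at h8
  have hwz : Commute (S.emb (nEl * eps)) S.z :=
    Commute.map (Subgroup.mem_center_iff.1 nEl_center (nEl * eps)) S.emb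
  have hg' : g⁻¹ * S.emb (nEl * eps) * g = S.z := by rw [← hg]; group
  have hcom : Commute (g⁻¹ * S.z * g⁻¹⁻¹) S.z := by
    have := hwz.map (MulAut.conj g⁻¹).toMonoidHom
    simp only [MulEquiv.coe_toMonoidHom, MulAut.conj_apply, inv_inv] at this
    rw [inv_inv]
    rw [hg'] at this
    exact this.symm
  obtain ⟨y, hy⟩ := S.conj_in g⁻¹ hcom
  have hy1 : y * y = 1 := S.emb_inj (by
    rw [map_mul, ← hy, show g⁻¹ * S.z * g⁻¹⁻¹ * (g⁻¹ * S.z * g⁻¹⁻¹) = g⁻¹ * (S.z * S.z) * g⁻¹⁻¹ by group,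
      S.z_sq, mul_one, mul_inv_cancel, map_one])
  have hy2 : y ≠ 1 := by
    intro h
    rw [h, map_one, conj_eq_one_iff] at hy
    exact S.z_ne hy
  have hy3 : y ≠ nEl := by
    intro h
    rw [h, inv_inv] at hy
    refine hne (S.emb_inj ?_)
    rw [← hg]
    conv_lhs => rw [show S.z = g⁻¹ * S.z * g from hy.symm]
    show g * (g⁻¹ * S.z * g) * g⁻¹ = S.emb nEl
    group
  obtain ⟨k, c, hc, hk, hcard⟩ := invol_sign hy1 hy2 hy3
  have ek : k * y * k⁻¹ = sE c := mono_eq hk (sE_mono hc)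
  -- transport
  set h := S.emb k * g⁻¹ with hh
  have hw : h * S.emb (nEl * eps) * h⁻¹ = S.z := by
    have hkz : Commute (S.emb k) S.z := Commute.map (Subgroup.mem_center_iff.1 nEl_center k) S.emb
    rw [hh, ← hg, show S.emb k * g⁻¹ * (g * S.z * g⁻¹) * (S.emb k * g⁻¹)⁻¹ = S.emb k * S.z * (S.emb k)⁻¹ by
      group, hkz.eq, mul_inv_cancel_right]
  have hzy : h * S.z * h⁻¹ = S.emb (sE c) := by
    rw [hh, ← ek, map_mul, map_mul, map_inv, ← hy]
    group
  have hjoint : ∀ x, S.Joint (nEl * eps) x ↔ S.Joint (sE c) (h * x * h⁻¹) := by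
    intro x
    have key : ∀ a b : G, Commute a b ↔ Commute (h * a * h⁻¹) (h * b * h⁻¹) := fun a b => by
      rw [Commute.conj_iff]
    simp only [Joint]
    rw [key x S.z, key x (S.emb (nEl * eps)), hw, hzy]
    exact and_comm
  have hcards : {x | S.Joint (nEl * eps) x}.ncard = {x | S.Joint (sE c) x}.ncard := by
    refine (Set.ncard_image_of_injective _ (MulAut.conj h).injective).symm.trans (congrArg _ ?_)
    ext x
    simp only [Set.mem_image, Set.mem_setOf_eq, MulAut.conj_apply]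
    constructor
    · rintro ⟨u, hu, rfl⟩; exact (hjoint u).1 hu
    · intro hx
      refine ⟨h⁻¹ * x * h, (hjoint _).2 ?_, by group⟩
      rwa [show h * (h⁻¹ * x * h) * h⁻¹ = x by group]
  have hcent : Nat.card ↥(Subgroup.centralizer ({sE c} : Set ↥Co0)) = Nat.card ↥C0 := by
    have e1 := S.card_joint (nEl * eps)
    rw [hcards, S.card_joint (sE c)] at e1
    have e2 := Nat.eq_of_mul_eq_mul_right Nat.card_pos e1
    rw [e2]
    congr 1
    exact congrArg (fun H : Subgroup ↥Co0 => ↥H) (Subgroup.ext fun a => by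
      rw [Subgroup.mem_centralizer_singleton_iff, mem_C0]
      exact ⟨fun h => (comm_zeps.1 h).symm.eq, fun h => comm_zeps.2 (Commute.symm h)⟩)
  have hnot12 : (support₂ c).card ≠ 12 := fun h12 =>
    eleven_not_dvd (hcent ▸ eleven_dvd hc h12)
  -- adjust so that the pair is mapped to itself
  obtain ⟨u, hu, hsame⟩ : ∃ u : ↥Co0, (u * sE c * u⁻¹ = eps ∨ u * sE c * u⁻¹ = nEl * eps) ∧ True := by
    rcases hcard with e | e | e
    · obtain ⟨u, hu⟩ := sign_conj_card hc octW_mem (sE_mono hc) (sE_mono octW_mem) (e.trans octW_card.symm) (Or.inl e)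
      exact ⟨u, Or.inl (hu.trans eps_sE.symm), trivial⟩
    · exact absurd e hnot12
    · have h16 : (support₂ (octW + 1)).card = 16 := by rw [card_add_one, octW_card]
      obtain ⟨u, hu⟩ := sign_conj_card hc (add_mem octW_mem one_word_mem) (sE_mono hc)
        (sE_mono (add_mem octW_mem one_word_mem)) (e.trans h16.symm) (Or.inr (Or.inr e))
      refine ⟨u, Or.inr (hu.trans ?_), trivial⟩
      rw [← sE_add octW_mem one_word_mem, sE_one, ← eps_sE, Subgroup.mem_center_iff.1 nEl_center eps]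
  set f := S.emb u * h with hf
  have huz : Commute (S.emb u) S.z := Commute.map (Subgroup.mem_center_iff.1 nEl_center u) S.emb
  have fw : f * S.emb (nEl * eps) * f⁻¹ = S.z := by
    rw [hf, show S.emb u * h * S.emb (nEl * eps) * (S.emb u * h)⁻¹ =
      S.emb u * (h * S.emb (nEl * eps) * h⁻¹) * (S.emb u)⁻¹ by group, hw, huz.eq, mul_inv_cancel_right]
  have fz : f * S.z * f⁻¹ = S.emb (u * sE c * u⁻¹) := by
    rw [hf, show S.emb u * h * S.z * (S.emb u * h)⁻¹ = S.emb u * (h * S.z * h⁻¹) * (S.emb u)⁻¹ by group,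
      hzy, map_mul, map_mul, map_inv]
  have hsame2 : ∀ x, S.Joint (u * sE c * u⁻¹) x ↔ S.Joint (nEl * eps) x := by
    intro x
    rw [S.joint_iff, S.joint_iff]
    refine exists_congr fun a => and_congr_left fun _ => ?_
    rcases hu with e | e <;> rw [e]
    exact comm_zeps.symm
  have hf2 : ∀ x, S.Joint (nEl * eps) x ↔ S.Joint (nEl * eps) (f * x * f⁻¹) := by
    intro x
    rw [← hsame2 (f * x * f⁻¹)]
    simp only [Joint]
    rw [← Commute.conj_iff f (a := x) (b := S.z), ← Commute.conj_iff f (a := x) (b := S.emb (nEl * eps)),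
      fw, fz]
    exact and_comm
  obtain ⟨N, hN, hle, hnorm, x, hx, y', hy', he⟩ := S.two_witness
  have := S.two_comm (N := N.map (MulAut.conj f).toMonoidHom) (hN.map _) (by
      rintro _ ⟨v, hv, rfl⟩
      exact (hf2 v).1 (hle v hv)) (by
      rintro _ ⟨v, hv, rfl⟩ t ht
      have ht' : S.Joint (nEl * eps) (f⁻¹ * t * f) := by
        refine (hf2 _).2 ?_
        rwa [show f * (f⁻¹ * t * f) * f⁻¹ = t by group]
      refine ⟨_, hnorm v hv _ ht', ?_⟩
      show f * (f⁻¹ * t * f * v * (f⁻¹ * t * f)⁻¹) * f⁻¹ = t * (f * v * f⁻¹) * t⁻¹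
      group) _ ⟨x, hx, rfl⟩ _ ⟨y', hy', rfl⟩
  rw [← map_mul, ← map_mul, he, map_mul _ (S.emb (nEl * eps))] at this
  have hfc : (MulAut.conj f).toMonoidHom (S.emb (nEl * eps)) = S.z := fw
  rw [hfc] at this
  rcases this with h1 | h1
  · exact S.z_ne (mul_eq_right.1 h1)
  · exact hne (S.emb_inj (mul_right_cancel h1).symm)

/-- images of the sign changes under a conjugation moving a fused one back to z -/
theorem moved (S : Comp G) {o : GolayPt → ZMod 2} (ho : o ∈ golayCode) {g : G}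
    (hg : g * S.z * g⁻¹ = S.emb (sE o)) {x : GolayPt → ZMod 2} (hx : x ∈ golayCode) :
    Commute (g⁻¹ * S.emb (sE x) * g) S.z ∧
      g⁻¹ * S.emb (sE (x + o)) * g = g⁻¹ * S.emb (sE x) * g * S.z ∧
      g⁻¹ * S.emb (sE (x + 1)) * g = g⁻¹ * S.emb (sE x) * g * (g⁻¹ * S.z * g) := by
  have hz : g⁻¹ * S.emb (sE o) * g = S.z := by rw [← hg]; group
  refine ⟨?_, ?_, ?_⟩
  · have h1 : Commute (sE x) (sE o) := by
      show sE x * sE o = sE o * sE x
      rw [sE_add hx ho, sE_add ho hx, add_comm]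
    have := (h1.map S.emb).map (MulAut.conj g⁻¹).toMonoidHom
    simp only [MulEquiv.coe_toMonoidHom, MulAut.conj_apply, inv_inv, hz] at this
    exact this
  · conv_rhs => rw [← hz]
    rw [← sE_add hx ho, map_mul]; group
  · rw [← sE_add hx one_word_mem, sE_one, map_mul]; group

/-- for a fused x with x + o fused: the image and its negative are fused -/
theorem image_pair (S : Comp G) {o : GolayPt → ZMod 2} (ho : o ∈ golayCode) {g : G}
    (hg : g * S.z * g⁻¹ = S.emb (sE o)) {x : GolayPt → ZMod 2} (hx : x ∈ golayCode) (hx0 : x ≠ 0)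
    (hxo : x ≠ o) {y : ↥Co0} (hy : g⁻¹ * S.emb (sE x) * g = S.emb y) :
    y * y = 1 ∧ y ≠ 1 ∧ y ≠ nEl ∧ (S.Fused y ↔ S.Fused (sE x)) ∧
      (S.Fused (nEl * y) ↔ S.Fused (sE (x + o))) := by
  obtain ⟨hc, h2, -⟩ := S.moved ho hg hx
  have hiff : ∀ {u y : ↥Co0}, g⁻¹ * S.emb u * g = S.emb y → (S.Fused y ↔ S.Fused u) := by
    intro u y e
    constructor
    · rintro ⟨f, hf⟩
      refine ⟨g * f, ?_⟩
      rw [show g * f * S.z * (g * f)⁻¹ = g * (f * S.z * f⁻¹) * g⁻¹ by group, hf, ← e]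
      group
    · rintro ⟨f, hf⟩
      refine ⟨g⁻¹ * f, ?_⟩
      rw [← e, ← hf]; group
  refine ⟨S.emb_inj ?_, ?_, ?_, hiff hy, hiff ?_⟩
  · rw [map_mul, ← hy, show g⁻¹ * S.emb (sE x) * g * (g⁻¹ * S.emb (sE x) * g) =
      g⁻¹ * (S.emb (sE x) * S.emb (sE x)) * g by group, ← map_mul, sE_sq hx, map_one, mul_one,
      inv_mul_cancel]
  · intro h
    rw [h, map_one] at hy
    have : S.emb (sE x) = 1 := by
      rw [show S.emb (sE x) = g * (g⁻¹ * S.emb (sE x) * g) * g⁻¹ by group, hy]; group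
    rw [← map_one S.emb] at this
    exact hx0 (sE_inj hx (zero_mem _) ((S.emb_inj this).trans (mono_one (sE_mono (zero_mem _))).symm))
  · intro h
    have : S.emb (sE x) = S.emb (sE o) := by
      rw [← hg, show S.emb (sE x) = g * (g⁻¹ * S.emb (sE x) * g) * g⁻¹ by group, hy, h]
    exact hxo (sE_inj hx ho (S.emb_inj this))
  · rw [h2, hy, ← map_mul, Subgroup.mem_center_iff.1 nEl_center y]

theorem card_pos_ne {x : GolayPt → ZMod 2} (h : (support₂ x).card ≠ 0) : x ≠ 0 := fun e => h (by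
  rw [e]; simp [support₂])

theorem not_eight (S : Comp G) : ∀ c ∈ golayCode, (support₂ c).card = 8 → ¬ S.Fused (sE c) := by
  intro c hc h8 hF
  have F8 : ∀ d ∈ golayCode, (support₂ d).card = 8 → S.Fused (sE d) := fun d hd h =>
    (S.fused_card hc hd (h8.trans h.symm) (Or.inl h8)).1 hF
  have F16 : ∀ d ∈ golayCode, (support₂ d).card = 16 → ¬ S.Fused (sE d) := fun d hd h hF' => by
    refine S.not_sixteen ?_
    have hm := add_mem octW_mem one_word_mem
    have h16 : (support₂ (octW + 1)).card = 16 := by rw [card_add_one, octW_card]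
    have := (S.fused_card hd hm (h.trans h16.symm) (Or.inr (Or.inr h))).1 hF'
    rwa [← sE_add octW_mem one_word_mem, sE_one, ← eps_sE, Subgroup.mem_center_iff.1 nEl_center eps] at this
  obtain ⟨f10, -, -, -, p10, px, -⟩ := word_facts
  have ho := octW_mem
  set o' := ofMaskW 10558 with ho'def
  have ho' : o' ∈ golayCode := code_ofMaskW f10
  have c1 : (support₂ o').card = 8 := by rw [card_ofMaskW (by norm_num), p10]
  have c2 : (support₂ (o' + octW)).card = 8 := by
    rw [add_comm, card_ofMaskW_add inCode_oct f10, px]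
  obtain ⟨g, hg⟩ := F8 octW ho octW_card
  have hne1 : o' ≠ octW := fun e => by
    have h := c2
    rw [e, show octW + octW = 0 from funext fun p => CharTwo.add_self_eq_zero _] at h
    simp [support₂] at h
  -- the image of the other octad
  obtain ⟨f, hf⟩ := F8 o' ho' c1
  obtain ⟨y, hy⟩ : ∃ y, g⁻¹ * S.emb (sE o') * g = S.emb y := by
    have e : g⁻¹ * f * S.z * (g⁻¹ * f)⁻¹ = g⁻¹ * S.emb (sE o') * g := by rw [← hf]; group
    obtain ⟨y, hy⟩ := S.conj_in (g⁻¹ * f) (by rw [e]; exact (S.moved ho hg ho').1)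
    exact ⟨y, e ▸ hy⟩
  obtain ⟨y1, y2, y3, hA, hB⟩ := S.image_pair ho hg ho' (card_pos_ne (by omega)) hne1 hy
  obtain ⟨d, hd, hd3, hA', hB'⟩ := S.pair_form y1 y2 y3
  have d1 : S.Fused (sE d) := hA'.1 (hA.2 (F8 _ ho' c1))
  have d2 : S.Fused (sE (d + 1)) := hB'.1 (hB.2 (F8 _ (add_mem ho' ho) c2))
  have h12 : (support₂ d).card = 12 := by
    rcases hd3 with e | e | e
    · exact absurd d2 (F16 _ (add_mem hd one_word_mem) (by rw [card_add_one, e]))
    · exact e
    · exact absurd d1 (F16 _ hd e)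
  have F12 : ∀ u ∈ golayCode, (support₂ u).card = 12 → S.Fused (sE u) := fun u hu h =>
    (S.fused_card hd hu (h12.trans h.symm) (Or.inr (Or.inl h12))).1 d1
  -- the complement of the other octad
  have hx : o' + 1 ∈ golayCode := add_mem ho' one_word_mem
  have c3 : (support₂ (o' + 1)).card = 16 := by rw [card_add_one, c1]
  have c4 : (support₂ (o' + 1 + octW)).card = 16 := by
    rw [show o' + 1 + octW = o' + octW + 1 by abel, card_add_one, c2]
  have hne2 : o' + 1 ≠ octW := fun e => by rw [e, octW_card] at c3; omega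
  obtain ⟨u, hu⟩ : ∃ u, g⁻¹ * S.emb (sE (o' + 1)) * g = S.emb u := by
    have hz1 : Commute (g⁻¹ * S.z * g⁻¹⁻¹) S.z := by
      have := (S.moved ho hg one_word_mem).1
      rw [sE_one] at this
      rwa [inv_inv]
    obtain ⟨t, ht⟩ := S.conj_in g⁻¹ hz1
    rw [inv_inv] at ht
    refine ⟨y * t, ?_⟩
    rw [(S.moved ho hg ho').2.2, hy, ht, map_mul]
  obtain ⟨u1, u2, u3, hC, hD⟩ := S.image_pair ho hg hx (card_pos_ne (by omega)) hne2 hu
  obtain ⟨e', he', he3, hC', hD'⟩ := S.pair_form u1 u2 u3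
  have n1 : ¬ S.Fused (sE e') := fun h => F16 _ hx c3 (hC.1 (hC'.2 h))
  have n2 : ¬ S.Fused (sE (e' + 1)) := fun h => F16 _ (add_mem hx ho) c4 (hD.1 (hD'.2 h))
  rcases he3 with e | e | e
  · exact n1 (F8 _ he' e)
  · exact n1 (F12 _ he' e)
  · exact n2 (F8 _ (add_mem he' one_word_mem) (by rw [card_add_one, e]))

theorem not_twelve (S : Comp G) : ∀ c ∈ golayCode, (support₂ c).card = 12 → ¬ S.Fused (sE c) := by
  intro c hc h12 hF
  have F12 : ∀ u ∈ golayCode, (support₂ u).card = 12 → S.Fused (sE u) := fun u hu h =>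
    (S.fused_card hc hu (h12.trans h.symm) (Or.inr (Or.inl h12))).1 hF
  have F16 : ∀ d ∈ golayCode, (support₂ d).card = 16 → ¬ S.Fused (sE d) := fun d hd h hF' => by
    refine S.not_sixteen ?_
    have hm := add_mem octW_mem one_word_mem
    have h16 : (support₂ (octW + 1)).card = 16 := by rw [card_add_one, octW_card]
    have := (S.fused_card hd hm (h.trans h16.symm) (Or.inr (Or.inr h))).1 hF'
    rwa [← sE_add octW_mem one_word_mem, sE_one, ← eps_sE, Subgroup.mem_center_iff.1 nEl_center eps] at this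
  obtain ⟨-, f15, f165, -, -, -, p165, p15, px⟩ := word_facts
  set d := ofMaskW 165759 with hddef
  set o := ofMaskW 15777 with hodef
  have hd : d ∈ golayCode := code_ofMaskW f165
  have ho : o ∈ golayCode := code_ofMaskW f15
  have c1 : (support₂ d).card = 12 := by rw [card_ofMaskW (by norm_num), p165]
  have c0 : (support₂ o).card = 8 := by rw [card_ofMaskW (by norm_num), p15]
  have c2 : (support₂ (d + o)).card = 12 := by rw [card_ofMaskW_add f165 f15, px]
  obtain ⟨g, hg⟩ := F12 d hd c1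
  have hx : d + o ∈ golayCode := add_mem hd ho
  have hne : d + o ≠ d := fun e => card_pos_ne (x := o) (by omega) (add_left_cancel (e.trans (add_zero d).symm))
  obtain ⟨f, hf⟩ := F12 _ hx c2
  obtain ⟨y, hy⟩ : ∃ y, g⁻¹ * S.emb (sE (d + o)) * g = S.emb y := by
    have e : g⁻¹ * f * S.z * (g⁻¹ * f)⁻¹ = g⁻¹ * S.emb (sE (d + o)) * g := by rw [← hf]; group
    obtain ⟨y, hy⟩ := S.conj_in (g⁻¹ * f) (by rw [e]; exact (S.moved hd hg hx).1)
    exact ⟨y, e ▸ hy⟩
  obtain ⟨y1, y2, y3, hA, hB⟩ := S.image_pair hd hg hx (card_pos_ne (by omega)) hne hy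
  have hsum : d + o + d = o := by
    funext p
    show d p + o p + d p = o p
    rw [add_comm (d p), add_assoc, CharTwo.add_self_eq_zero, add_zero]
  rw [hsum] at hB
  obtain ⟨u, hu, hu3, hA', hB'⟩ := S.pair_form y1 y2 y3
  have d1 : S.Fused (sE u) := hA'.1 (hA.2 (F12 _ hx c2))
  rcases hu3 with e | e | e
  · exact S.not_eight _ hu e d1
  · exact S.not_eight _ ho c0 (hB.1 (hB'.2 (F12 _ (add_mem hu one_word_mem) (by rw [card_add_one, e]))))
  · exact F16 _ hu e d1

/-- z is isolated -/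
theorem isolated (S : Comp G) (g : G) (h : Commute S.z (g * S.z * g⁻¹)) : g * S.z * g⁻¹ = S.z := by
  obtain ⟨y, hy⟩ := S.conj_in g h.symm
  by_contra hne
  have y1 : y * y = 1 := S.emb_inj (by
    rw [map_mul, ← hy, show g * S.z * g⁻¹ * (g * S.z * g⁻¹) = g * (S.z * S.z) * g⁻¹ by group,
      S.z_sq, mul_one, mul_inv_cancel, map_one])
  have y2 : y ≠ 1 := fun e => by
    rw [e, map_one, conj_eq_one_iff] at hy
    exact S.z_ne hy
  have y3 : y ≠ nEl := fun e => hne (by rw [hy, e])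
  obtain ⟨c, hc, hc3, hA, -⟩ := S.pair_form y1 y2 y3
  have hF : S.Fused (sE c) := hA.1 ⟨g, hy⟩
  rcases hc3 with e | e | e
  · exact S.not_eight c hc e hF
  · exact S.not_twelve c hc e hF
  · refine S.not_sixteen ?_
    have hm := add_mem octW_mem one_word_mem
    have h16 : (support₂ (octW + 1)).card = 16 := by rw [card_add_one, octW_card]
    have := (S.fused_card hc hm (e.trans h16.symm) (Or.inr (Or.inr e))).1 hF
    rwa [← sE_add octW_mem one_word_mem, sE_one, ← eps_sE, Subgroup.mem_center_iff.1 nEl_center eps] at this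

end Comp

end Cfsg.Agent.Spor.CoZeroStandard
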